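import Mathlib
import Cfsg.Prelude.Def_Characters
set_option linter.all false

/-!
# The Gauss sum proof of the k(GV) theorem: definitions

`p` is a prime, `q = p ^ f`.  A *Gauss system* is a function `T : ℕ → ℕ → ZMod p`, to be thought
of as `T f j = Tr (γ_f ^ j)` for a norm compatible system of primitive elements `γ_f` of the fields
with `p ^ f` elements, for which the Gauss sums `PG` have all the classical properties.
-/

set_option autoImplicit false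

namespace Cfsg.Agent.H644.KGV

open Cfsg Finset Polynomial

/-- Minus the Gauss sum over the field with `p ^ f` elements of the multiplicative character
`γ_f ^ j ↦ z ^ j` and the additive character `x ↦ exp (2 π i a Tr x / p)`. -/
noncomputable def PG (p : ℕ) [NeZero p] (T : ℕ → ℕ → ZMod p) (f : ℕ) (a : ZMod p) (z : ℂ) : ℂ :=
  -∑ j ∈ range (p ^ f - 1), (ZMod.stdAddChar (a * T f j) : ℂ) * z ^ j

/-- The product of the Gauss sums at the `r`-th roots of unity. -/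
noncomputable def cG (p : ℕ) [NeZero p] (T : ℕ → ℕ → ZMod p) (f : ℕ) (r : ℕ) (a : ZMod p) : ℂ :=
  ∏ w ∈ nthRootsFinset r (1 : ℂ), PG p T f a w

/-- A Gauss system: all the number theory that is used. -/
structure GaussSys (p : ℕ) [Fact p.Prime] (T : ℕ → ℕ → ZMod p) : Prop where
  /-- periodicity -/
  per : ∀ f j, 1 ≤ f → T f (j + (p ^ f - 1)) = T f j
  /-- the trace is Frobenius invariant -/
  frob : ∀ f j, 1 ≤ f → T f (p * j) = T f j
  /-- the trace from a bigger field of an element of a subfield -/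
  sub : ∀ f m j, 1 ≤ f → 1 ≤ m →
    T (f * m) ((p ^ (f * m) - 1) / (p ^ f - 1) * j) = (m : ZMod p) * T f j
  /-- trivial character -/
  one : ∀ f a, 1 ≤ f → a ≠ 0 → PG p T f a 1 = 1
  /-- absolute value -/
  norm : ∀ f a z, 1 ≤ f → a ≠ 0 → z ^ (p ^ f - 1) = 1 → z ≠ 1 → ‖PG p T f a z‖ ^ 2 = (p : ℝ) ^ f
  /-- the Gauss sum of a nontrivial character is divisible by `1 - ζ_p` -/
  ideal : ∀ f a z, 1 ≤ f → z ^ (p ^ f - 1) = 1 → z ≠ 1 →
    ∃ y : ℂ, IsIntegral ℤ y ∧ PG p T f a z = (1 - (ZMod.stdAddChar (1 : ZMod p) : ℂ)) * y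
  /-- Hasse-Davenport lifting theorem -/
  lift : ∀ f m a z, 1 ≤ f → 1 ≤ m → a ≠ 0 → z ^ (p ^ f - 1) = 1 →
    PG p T (f * m) a z = PG p T f a z ^ m
  /-- Hasse-Davenport product formula for a prime `ℓ` dividing `q - 1` -/
  split : ∀ f ℓ a z, 1 ≤ f → ℓ.Prime → ℓ ∣ p ^ f - 1 → a ≠ 0 → z ^ (p ^ f - 1) = 1 →
    ∏ w ∈ nthRootsFinset ℓ (1 : ℂ), PG p T f a (z * w) =
      PG p T f ((ℓ : ZMod p) * a) (z ^ ℓ) * cG p T f ℓ a
  /-- the non-split form -/
  nonsplit : ∀ f ℓ a z, 1 ≤ f → ℓ.Prime → ℓ ∣ p ^ f - 1 → a ≠ 0 → (z ^ ℓ) ^ (p ^ f - 1) = 1 →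
    z ^ (p ^ f - 1) ≠ 1 →
      PG p T (f * ℓ) a z = PG p T f ((ℓ : ZMod p) * a) (z ^ ℓ) * cG p T f ℓ a
  /-- the constant is congruent to 1 modulo `ℓ`, uniformly in `a` -/
  cst : ∀ f ℓ, 1 ≤ f → ℓ.Prime → ℓ ∣ p ^ f - 1 → ∃ m : ZMod p → ℤ, ∀ a, a ≠ 0 →
    cG p T f ℓ a = 1 + (ℓ : ℂ) * ∑ k : ZMod p, (ZMod.stdAddChar (a * k) : ℂ) * (m k : ℂ)

/-- `F` has over the Frobenius orbits `z, z ^ q, z ^ (q ^ 2), ...` (`q = p ^ f`) the Gauss sums as
products. -/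
def OrbFun (p : ℕ) [NeZero p] (T : ℕ → ℕ → ZMod p) (f : ℕ) (a : ZMod p) (F : ℂ → ℂ) : Prop :=
  ∀ (e : ℕ) (z : ℂ), 1 ≤ e → z ^ (p ^ (f * e) - 1) = 1 →
    ∏ i ∈ range e, F (z ^ (p ^ (f * i))) = PG p T (f * e) a z

/-- `M` is the multiset of eigenvalues of the element `g` for the character `χ`. -/
def IsEig {G : Type*} [Group G] (χ : G → ℂ) (g : G) (M : Multiset ℂ) : Prop :=
  (∀ z ∈ M, z ^ orderOf g = 1) ∧ ∀ i : ℕ, χ (g ^ i) = (M.map fun z => z ^ i).sum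

open Classical in
/-- The multiset of eigenvalues of `g` for the character `χ`. -/
noncomputable def eig {G : Type*} [Group G] (χ : G → ℂ) (g : G) : Multiset ℂ :=
  if h : ∃ M, IsEig χ g M then h.choose else 0

/-- The product of `F` over the eigenvalues of `g` for the character `χ`. -/
noncomputable def kap {G : Type*} [Group G] (F : ℂ → ℂ) (χ : G → ℂ) (g : G) : ℂ :=
  ((eig χ g).map F).prod

/-- A family of class functions indexed by the nonzero `a : ZMod p` is *uniformly integral* if it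
is of the form `∑ k, ζ_p ^ (a k) θ_k` with generalized characters `θ_k` independent of `a`. -/
def UInt (p : ℕ) [NeZero p] (G : Type*) [Group G] (κ : ZMod p → G → ℂ) : Prop :=
  ∃ θ : ZMod p → G → ℂ, (∀ k, IsGeneralizedCharacter G (θ k)) ∧
    ∀ a, a ≠ 0 → ∀ g, κ a g = ∑ k : ZMod p, (ZMod.stdAddChar (a * k) : ℂ) * θ k g

/-! ## Statements on finite fields -/

/-- `χ ∘ N_{L/K}`. -/
noncomputable def mulNorm {K L : Type*} [Field K] [Field L] [Algebra K L] (χ : MulChar K ℂ) :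
    MulChar L ℂ :=
  MulChar.ofUnitHom (χ.toUnitHom.comp (Units.map (Algebra.norm K : L →* K)))

/-- `ψ ∘ Tr_{L/K}`. -/
noncomputable def addTrace {K : Type*} (L : Type*) [Field K] [Field L] [Algebra K L]
    (ψ : AddChar K ℂ) : AddChar L ℂ :=
  ψ.compAddMonoidHom (Algebra.trace K L).toAddMonoidHom

/-- Hasse-Davenport lifting. -/
def HDLift : Prop := ∀ (K L : Type) [Field K] [Fintype K] [Field L] [Fintype L] [Algebra K L]
  (χ : MulChar K ℂ) (ψ : AddChar K ℂ), ψ ≠ 1 →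
    -gaussSum (mulNorm (L := L) χ) (addTrace L ψ) = (-gaussSum χ ψ) ^ Module.finrank K L

/-- Hasse-Davenport product formula for 2. -/
def HDTwo : Prop := ∀ (K : Type) [Field K] [Fintype K] (χ η : MulChar K ℂ) (ψ : AddChar K ℂ),
  ψ ≠ 1 → ringChar K ≠ 2 → η ≠ 1 → η ^ 2 = 1 →
    gaussSum χ ψ * gaussSum (χ * η) ψ = gaussSum (χ ^ 2) (ψ.mulShift 2) * gaussSum η ψ

/-- Hasse-Davenport product formula for an odd prime `ℓ`. -/
def HDOdd : Prop := ∀ (K : Type) [Field K] [Fintype K] (χ ρ : MulChar K ℂ) (ψ : AddChar K ℂ)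
  (ℓ : ℕ), ψ ≠ 1 → ℓ.Prime → ℓ ≠ 2 → orderOf ρ = ℓ →
    ∏ i ∈ range ℓ, (-gaussSum (χ * ρ ^ i) ψ) =
      -gaussSum (χ ^ ℓ) (ψ.mulShift (ℓ : K)) * (Fintype.card K : ℂ) ^ ((ℓ - 1) / 2)

/-- Non-split form for an odd prime `ℓ`: `L / K` of degree `ℓ` dividing `q - 1`, `X` a character of
`L` not of the form `Z ∘ N` with `X ^ ℓ = Y ∘ N`. -/
def HDOddNS : Prop := ∀ (K L : Type) [Field K] [Fintype K] [Field L] [Fintype L] [Algebra K L]
  (X : MulChar L ℂ) (Y : MulChar K ℂ) (ψ : AddChar K ℂ) (ℓ : ℕ), ψ ≠ 1 → ℓ.Prime → ℓ ≠ 2 →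
    ℓ ∣ Fintype.card K - 1 → Module.finrank K L = ℓ → X ^ ℓ = mulNorm Y →
    X ^ (Fintype.card K - 1) ≠ 1 →
    -gaussSum X (addTrace L ψ) =
      -gaussSum Y (ψ.mulShift (ℓ : K)) * (Fintype.card K : ℂ) ^ ((ℓ - 1) / 2)

/-- Non-split form for 2. -/
def HDTwoNS : Prop := ∀ (K L : Type) [Field K] [Fintype K] [Field L] [Fintype L] [Algebra K L]
  (X : MulChar L ℂ) (Y η : MulChar K ℂ) (ψ : AddChar K ℂ), ψ ≠ 1 → ringChar K ≠ 2 →
    η ≠ 1 → η ^ 2 = 1 → Module.finrank K L = 2 → X ^ 2 = mulNorm Y →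
    X ^ (Fintype.card K - 1) ≠ 1 →
    -gaussSum X (addTrace L ψ) = gaussSum Y (ψ.mulShift 2) * gaussSum η ψ

end Cfsg.Agent.H644.KGV
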