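import Mathlib
import Cfsg.Agent.H644.KGV.Goals
import Cfsg.Agent.OddOrderCharacters.InducedNormal
import Cfsg.Agent.H500.KGV.Eig
import Cfsg.Agent.H719.KGV.Star_mg
import Cfsg.Agent.H891.KGV.TI
import Cfsg.Agent.H644.KGV.Defs
import Cfsg.Prelude.Def_Blocks
import Cfsg.Agent.H766.KGV.Unit
import Cfsg.Agent.Characters.GaloisIrr
import Cfsg.Agent.Characters.Elementary
import Cfsg.Agent.H295.KGV.OddNS_mg
import Cfsg.Agent.H774.KGV.OddMain_mg
import Cfsg.Agent.H32.KGV.Sign
import Cfsg.Agent.H266.KGV.Dich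
import Cfsg.Agent.H671.KGV.Lift
set_option linter.all false

-- part: H491/KGV/Eig
section
/-!
# Eigenvalues of induced characters (helper491, EIG2 of TEAM KGV)

* `IsEig.unique`, `eig_eq` : the multiset of eigenvalues is unique;
* `isEig_ind` : `A` normal in `E`, `E = A⟨t⟩`, `r` the order of `hA`: the eigenvalues of `h` on `Ind φ` are the `r`-th
  roots of the eigenvalues of `t ^ i h ^ r t ^ (-i)` on `φ`, `i < |E : A| / r`;
* `kap_ind`, `kap_ind_lin`, `kap_ind_mem`, `kap_ind_not_mem` : the same for `kap`.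
-/

set_option autoImplicit false
set_option linter.unusedSectionVars false

namespace Cfsg.Agent.H491.KGV

open Cfsg Cfsg.Agent.H644.KGV Finset Polynomial
open Cfsg.Agent.OddOrderCharacters.InducedNormal (indFun_mem indFun_of_not_mem)

universe u

/-! ### Uniqueness -/

/-- a multiset of complex numbers is determined by its power sums -/
theorem eq_of_powerSums {M M' : Multiset ℂ}
    (h : ∀ i : ℕ, (M.map fun z => z ^ i).sum = (M'.map fun z => z ^ i).sum) : M = M' := by
  classical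
  have hf : ∀ z : ℂ, ∃ f : Multiplicative ℕ →* ℂ, ∀ i : ℕ, f (Multiplicative.ofAdd i) = z ^ i := fun z =>
    ⟨(powersHom ℂ z), fun i => by simp⟩
  choose f hf using hf
  have hinj : Function.Injective f := by
    intro a b hab
    have h1 := hf a 1
    rw [hab, hf b 1, pow_one, pow_one] at h1
    exact h1.symm
  have hli := (linearIndependent_monoidHom (Multiplicative ℕ) ℂ).comp f hinj
  rw [linearIndependent_iff'] at hli
  have key := hli (M.toFinset ∪ M'.toFinset) (fun z => (M.count z : ℂ) - (M'.count z : ℂ)) (by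
    funext i
    obtain ⟨j, hj⟩ : ∃ j : ℕ, i = Multiplicative.ofAdd j := ⟨Multiplicative.toAdd i, rfl⟩
    rw [hj, Finset.sum_apply]
    have h1 : ∀ N : Multiset ℂ, N.toFinset ⊆ M.toFinset ∪ M'.toFinset →
        (N.map fun z => z ^ j).sum = ∑ z ∈ M.toFinset ∪ M'.toFinset, (N.count z : ℂ) * z ^ j := by
      intro N hN
      rw [Finset.sum_multiset_map_count]
      rw [← Finset.sum_subset hN]
      · refine Finset.sum_congr rfl fun z _ => ?_
        rw [nsmul_eq_mul]
      · intro z _ hz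
        rw [Multiset.mem_toFinset, ← Multiset.count_pos, Nat.pos_iff_ne_zero, not_not] at hz
        rw [hz, Nat.cast_zero, zero_mul]
    have h2 := h j
    rw [h1 M Finset.subset_union_left, h1 M' Finset.subset_union_right, ← sub_eq_zero, ← Finset.sum_sub_distrib] at h2
    rw [Pi.zero_apply, ← h2]
    refine Finset.sum_congr rfl fun z _ => ?_
    rw [Pi.smul_apply, smul_eq_mul, Function.comp_apply, hf, sub_mul])
  ext z
  by_cases hz : z ∈ M.toFinset ∪ M'.toFinset
  · exact_mod_cast sub_eq_zero.1 (key z hz)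
  · rw [Finset.mem_union, not_or, Multiset.mem_toFinset, Multiset.mem_toFinset] at hz
    rw [Multiset.count_eq_zero_of_notMem hz.1, Multiset.count_eq_zero_of_notMem hz.2]

theorem isEig_unique {G : Type*} [Group G] {χ : G → ℂ} {g : G} {M M' : Multiset ℂ} (h : IsEig χ g M)
    (h' : IsEig χ g M') : M = M' :=
  eq_of_powerSums fun i => (h.2 i).symm.trans (h'.2 i)

theorem eig_eq {G : Type*} [Group G] {χ : G → ℂ} {g : G} {M : Multiset ℂ} (h : IsEig χ g M) : eig χ g = M := by
  have hex : ∃ M, IsEig χ g M := ⟨M, h⟩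
  unfold eig
  rw [dif_pos hex]
  exact isEig_unique hex.choose_spec h

theorem isEig_eig {G : Type*} [Group G] {χ : G → ℂ} {g : G} {M : Multiset ℂ} (h : IsEig χ g M) :
    IsEig χ g (eig χ g) := by
  rw [eig_eq h]; exact h

/-- the eigenvalue of a linear character -/
theorem isEig_lin {G : Type*} [Group G] (lam : G →* ℂˣ) (g : G) : IsEig (fun x => (lam x : ℂ)) g {(lam g : ℂ)} := by
  constructor
  · intro z hz
    rw [Multiset.mem_singleton.1 hz, ← Units.val_pow_eq_pow_val, ← map_pow, pow_orderOf_eq_one, map_one, Units.val_one]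
  · intro i
    rw [Multiset.map_singleton, Multiset.sum_singleton]
    show ((lam (g ^ i) : ℂˣ) : ℂ) = _
    rw [map_pow, Units.val_pow_eq_pow_val]

theorem eig_lin {G : Type*} [Group G] (lam : G →* ℂˣ) (g : G) : eig (fun x => (lam x : ℂ)) g = {(lam g : ℂ)} :=
  eig_eq (isEig_lin lam g)

/-! ### Roots -/

/-- power sums of the `r`-th roots of `b` -/
theorem sum_roots {r : ℕ} (hr : 0 < r) {b : ℂ} (hb : b ≠ 0) (j : ℕ) :
    ((nthRootsFinset r b).val.map fun z => z ^ j).sum = if r ∣ j then (r : ℂ) * b ^ (j / r) else 0 := by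
  classical
  obtain ⟨ζ, hζ⟩ : ∃ ζ : ℂ, IsPrimitiveRoot ζ r := ⟨_, Complex.isPrimitiveRoot_exp r hr.ne'⟩
  obtain ⟨α, hα⟩ := IsAlgClosed.exists_pow_nat_eq b hr
  have h1 : (nthRootsFinset r b).val = nthRoots r b := by
    rw [nthRootsFinset_def, Multiset.toFinset_val, Multiset.dedup_eq_self]
    exact hζ.nthRoots_nodup hb
  rw [h1, hζ.nthRoots_eq hα, Multiset.map_map]
  have h2 : (Multiset.map ((fun z => z ^ j) ∘ fun x => ζ ^ x * α) (Multiset.range r)).sum =
      ∑ i ∈ range r, (ζ ^ j) ^ i * α ^ j := by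
    rw [Finset.sum]
    refine congrArg Multiset.sum (Multiset.map_congr rfl fun i _ => ?_)
    rw [Function.comp_apply, mul_pow, ← pow_mul, ← pow_mul, mul_comm]
    ring
  rw [h2, ← Finset.sum_mul]
  by_cases hd : r ∣ j
  · rw [if_pos hd]
    obtain ⟨k, rfl⟩ := hd
    rw [pow_mul ζ, hζ.pow_eq_one, one_pow]
    simp only [one_pow, sum_const, card_range, nsmul_eq_mul, mul_one]
    rw [Nat.mul_div_cancel_left k hr, pow_mul, hα]
  · rw [if_neg hd]
    have h3 : ζ ^ j ≠ 1 := fun h => hd ((hζ.pow_eq_one_iff_dvd j).1 h)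
    have h4 : (ζ ^ j) ^ r = 1 := by rw [← pow_mul, mul_comm, pow_mul, hζ.pow_eq_one, one_pow]
    have h5 := mul_neg_geom_sum (ζ ^ j) r
    rw [h4, sub_self] at h5
    rw [(mul_eq_zero.1 h5).resolve_left (sub_ne_zero.2 h3.symm), zero_mul]

/-! ### Cyclic quotients -/

theorem cyc_mem {C : Type*} [Group C] [Finite C] [IsCyclic C] {a b : C} {n : ℕ} (ha : a ^ n = 1) (hb : orderOf b = n) :
    a ∈ Subgroup.zpowers b := by
  classical
  have hn : 0 < n := by rw [← hb]; exact orderOf_pos b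
  have : Fintype C := Fintype.ofFinite C
  by_contra hcon
  have h1 := IsCyclic.card_pow_eq_one_le (α := C) hn
  have h2 : insert a (Finset.univ.filter fun c : C => c ∈ Subgroup.zpowers b) ⊆
      Finset.univ.filter fun c : C => c ^ n = 1 := by
    intro c hc
    rw [Finset.mem_filter]
    refine ⟨Finset.mem_univ _, ?_⟩
    rcases Finset.mem_insert.1 hc with rfl | hc
    · exact ha
    · obtain ⟨k, rfl⟩ := Subgroup.mem_zpowers_iff.1 (Finset.mem_filter.1 hc).2
      rw [← zpow_natCast, ← zpow_mul, mul_comm, zpow_mul, zpow_natCast, ← hb, pow_orderOf_eq_one, one_zpow]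
  have h3 := Finset.card_le_card h2
  rw [Finset.card_insert_of_notMem (by simpa using hcon)] at h3
  have h4 : (Finset.univ.filter fun c : C => c ∈ Subgroup.zpowers b).card = n := by
    rw [← hb, ← Nat.card_zpowers, Nat.card_eq_fintype_card, Fintype.card_subtype]
  omega

section Cyclic

variable {E : Type u} [Group E] [Fintype E] (A : Subgroup E) [hA : A.Normal] {t : E}

/-- a sum over `E` of a left `A`-invariant function -/
theorem sum_cosets (ht : A ⊔ Subgroup.zpowers t = ⊤) {ψ : E → ℂ} (hψ : ∀ a ∈ A, ∀ x, ψ (a * x) = ψ x) :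
    ∑ x : E, ψ x = (Nat.card A : ℂ) * ∑ i ∈ range A.index, ψ (t ^ i) := by
  classical
  have hidx : A.index ≠ 0 := Subgroup.index_ne_zero_of_finite
  -- the powers of `t` represent the cosets
  have htop : ∀ x : E, ∃ i < A.index, ∃ a ∈ A, x = a * t ^ i := by
    intro x
    have hx : x ∈ A ⊔ Subgroup.zpowers t := by rw [ht]; trivial
    obtain ⟨a, ha, y, hy, rfl⟩ := Subgroup.mem_sup_of_normal_left.1 hx
    obtain ⟨k, rfl⟩ := Subgroup.mem_zpowers_iff.1 hy
    have h1 : t ^ A.index ∈ A := by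
      have h2 : ((t : E) : E ⧸ A) ^ A.index = 1 := by
        rw [Subgroup.index_eq_card]
        exact pow_card_eq_one'
      rw [← QuotientGroup.mk_pow] at h2
      exact (QuotientGroup.eq_one_iff _).1 h2
    refine ⟨(k % (A.index : ℤ)).toNat, ?_, a * (t ^ ((A.index : ℤ) * (k / A.index))), ?_, ?_⟩
    · have h2 := Int.emod_lt_of_pos k (show (0 : ℤ) < A.index by exact_mod_cast Nat.pos_of_ne_zero hidx)
      have h3 := Int.emod_nonneg k (show (A.index : ℤ) ≠ 0 by exact_mod_cast hidx)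
      omega
    · refine A.mul_mem ha ?_
      rw [zpow_mul, zpow_natCast]
      exact A.zpow_mem h1 _
    · have h3 := Int.emod_nonneg k (show (A.index : ℤ) ≠ 0 by exact_mod_cast hidx)
      rw [← zpow_natCast t, Int.toNat_of_nonneg h3, mul_assoc, ← zpow_add, Int.mul_ediv_add_emod]
  let f : Fin A.index × A → E := fun x => (x.2 : E) * t ^ (x.1 : ℕ)
  have hf : Function.Bijective f := by
    have h1 : Function.Surjective f := by
      intro x
      obtain ⟨i, hi, a, ha, rfl⟩ := htop x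
      exact ⟨(⟨i, hi⟩, ⟨a, ha⟩), rfl⟩
    refine h1.bijective_of_nat_card_le ?_
    rw [Nat.card_prod, Nat.card_fin, mul_comm, A.card_mul_index]
  have : Fintype A := Fintype.ofFinite _
  rw [← hf.sum_comp ψ, Fintype.sum_prod_type]
  have h2 : ∀ i : Fin A.index, ∑ a : A, ψ (f (i, a)) = (Nat.card A : ℂ) * ψ (t ^ (i : ℕ)) := by
    intro i
    rw [Finset.sum_congr rfl (fun (a : A) _ => hψ (a : E) a.2 (t ^ (i : ℕ))), Finset.sum_const, Finset.card_univ, nsmul_eq_mul,
      Nat.card_eq_fintype_card]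
  rw [Finset.sum_congr rfl (fun i _ => h2 i), ← Finset.mul_sum, Fin.sum_univ_eq_sum_range (fun i => ψ (t ^ i))]

/-- a periodic sum -/
theorem sum_periodic {g : ℕ → ℂ} {d : ℕ} (hg : ∀ i, g (i + d) = g i) (r : ℕ) :
    ∑ i ∈ range (r * d), g i = (r : ℂ) * ∑ i ∈ range d, g i := by
  have hg' : ∀ n i, g (n * d + i) = g i := by
    intro n
    induction n with
    | zero => intro i; rw [Nat.zero_mul, Nat.zero_add]
    | succ n ih =>
      intro i
      have e : (n + 1) * d + i = (n * d + i) + d := by ring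
      rw [e, hg, ih]
  induction r with
  | zero => simp
  | succ r ih =>
    rw [Nat.succ_mul, Finset.sum_range_add, ih, Finset.sum_congr rfl (fun i _ => hg' r i)]
    push_cast
    ring

/-- the values of an induced class function if `E / A` is cyclic -/
theorem indFun_cyclic (ht : A ⊔ Subgroup.zpowers t = ⊤) {φ : A → ℂ} (hφ : IsClassFunction A φ) {h : E} {r : ℕ}
    (hr : orderOf (h : E ⧸ A) = r) {y : E} (hy : y ∈ A) (hyh : y * h = h * y) :
    indFun A φ y = (r : ℂ) * ∑ i ∈ range (A.index / r), φ ⟨t ^ i * y * (t ^ i)⁻¹, hA.conj_mem y hy _⟩ := by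
  have hr0 : 0 < r := by rw [← hr]; exact orderOf_pos _
  have hrd : r ∣ A.index := by rw [← hr, Subgroup.index_eq_card]; exact orderOf_dvd_natCard _
  obtain ⟨d, hd⟩ := hrd
  let ψ : E → ℂ := fun x => φ ⟨x * y * x⁻¹, hA.conj_mem y hy _⟩
  have hψ1 : ∀ a ∈ A, ∀ x, ψ (a * x) = ψ x := by
    intro a ha x
    have h1 := hφ ⟨x * y * x⁻¹, hA.conj_mem y hy _⟩ ⟨a, ha⟩
    show φ _ = φ _
    rw [← h1]
    congr 1
    apply Subtype.ext
    show a * x * y * (a * x)⁻¹ = a * (x * y * x⁻¹) * a⁻¹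
    group
  have hψ2 : ∀ x, ∀ k : ℕ, ψ (x * h ^ k) = ψ x := by
    intro x k
    have hc : y * h ^ k = h ^ k * y := ((show Commute y h from hyh).pow_right k).eq
    show φ _ = φ _
    congr 1
    apply Subtype.ext
    show x * h ^ k * y * (x * h ^ k)⁻¹ = x * y * x⁻¹
    calc x * h ^ k * y * (x * h ^ k)⁻¹ = x * (h ^ k * y) * (h ^ k)⁻¹ * x⁻¹ := by group
      _ = x * (y * h ^ k) * (h ^ k)⁻¹ * x⁻¹ := by rw [hc]
      _ = x * y * x⁻¹ := by group
  -- `t ^ d` is a power of `h` modulo `A`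
  have hper : ∀ i, ψ (t ^ (i + d)) = ψ (t ^ i) := by
    intro i
    have h1 : ((t : E) : E ⧸ A) ^ d ∈ Subgroup.zpowers (h : E ⧸ A) := by
      have hcyc : IsCyclic (E ⧸ A) := by
        refine ⟨⟨(t : E ⧸ A), fun x => ?_⟩⟩
        obtain ⟨x, rfl⟩ := QuotientGroup.mk_surjective x
        have hx : x ∈ A ⊔ Subgroup.zpowers t := by rw [ht]; trivial
        obtain ⟨a, ha, y, hy, rfl⟩ := Subgroup.mem_sup_of_normal_left.1 hx
        obtain ⟨k, rfl⟩ := Subgroup.mem_zpowers_iff.1 hy
        refine Subgroup.mem_zpowers_iff.2 ⟨k, ?_⟩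
        rw [← QuotientGroup.mk_zpow, QuotientGroup.mk_mul, (QuotientGroup.eq_one_iff a).2 ha, one_mul]
      have hord : orderOf ((h : E) : E ⧸ A) = Nat.card (Subgroup.zpowers (h : E ⧸ A)) := (Nat.card_zpowers _).symm
      -- the elements of exponent `r` form the subgroup generated by `h`
      have h2 : (((t : E) : E ⧸ A) ^ d) ^ r = 1 := by
        rw [← pow_mul, mul_comm, ← hd, Subgroup.index_eq_card]
        exact pow_card_eq_one'
      exact cyc_mem h2 hr
    obtain ⟨k, hk⟩ := (mem_powers_iff_mem_zpowers.2 h1)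
    have hk' : ((h ^ k : E) : E ⧸ A) = ((t ^ d : E) : E ⧸ A) := by
      rw [QuotientGroup.mk_pow, QuotientGroup.mk_pow]; exact hk
    have h3 : t ^ d * (h ^ k)⁻¹ ∈ A := by
      have h4 : (h ^ k)⁻¹ * t ^ d ∈ A := QuotientGroup.eq.1 hk'
      have h5 := hA.conj_mem _ h4 (h ^ k)
      have e : h ^ k * ((h ^ k)⁻¹ * t ^ d) * (h ^ k)⁻¹ = t ^ d * (h ^ k)⁻¹ := by group
      rwa [e] at h5
    have h6 : t ^ i * (t ^ d * (h ^ k)⁻¹) * (t ^ i)⁻¹ ∈ A := hA.conj_mem _ h3 _
    have e : t ^ (i + d) = (t ^ i * (t ^ d * (h ^ k)⁻¹) * (t ^ i)⁻¹) * (t ^ i * h ^ k) := by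
      rw [pow_add]; group
    rw [e, hψ1 _ h6, hψ2]
  have h1 : ∑ x : E, φ ⟨x⁻¹ * y * x, Cfsg.Agent.OddOrderCharacters.InducedNormal.conj_mem' A hy x⟩ = ∑ x : E, ψ x := by
    refine (Equiv.sum_comp (Equiv.inv E) _).symm.trans (Finset.sum_congr rfl fun x _ => ?_)
    show φ _ = φ _
    congr 1
    apply Subtype.ext
    show (x⁻¹)⁻¹ * y * x⁻¹ = x * y * x⁻¹
    rw [inv_inv]
  rw [indFun_mem A φ hy, h1, sum_cosets A ht hψ1, ← mul_assoc,
    inv_mul_cancel₀ (Cfsg.Agent.OddOrderCharacters.InducedNormal.card_ne_zero A), one_mul, hd,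
    Nat.mul_div_cancel_left d hr0]
  exact sum_periodic hper r

/-- **the eigenvalues of an induced character if `E / A` is cyclic** -/
theorem isEig_ind (ht : A ⊔ Subgroup.zpowers t = ⊤) {φ : A → ℂ} (hφ : IsClassFunction A φ)
    (hE : ∀ a : A, IsEig φ a (eig φ a)) {h : E} {r : ℕ} (hr : orderOf (h : E ⧸ A) = r) (hrA : h ^ r ∈ A) :
    IsEig (indFun A φ) h (∑ i ∈ range (A.index / r),
      (eig φ ⟨t ^ i * h ^ r * (t ^ i)⁻¹, hA.conj_mem _ hrA _⟩).bind fun b => (nthRootsFinset r b).val) := by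
  have hr0 : 0 < r := by rw [← hr]; exact orderOf_pos _
  have hro : r ∣ orderOf h := by
    rw [← hr]
    exact orderOf_map_dvd (QuotientGroup.mk' A) h
  obtain ⟨m, hm⟩ := hro
  have hmo : orderOf (h ^ r) = m := by
    rw [orderOf_pow_of_dvd hr0.ne' ⟨m, hm⟩, hm, Nat.mul_div_cancel_left m hr0]
  -- the orders of the conjugates
  have hco : ∀ i, orderOf (⟨t ^ i * h ^ r * (t ^ i)⁻¹, hA.conj_mem _ hrA _⟩ : A) = m := by
    intro i
    rw [Subgroup.orderOf_mk, ← hmo]
    exact (MulEquiv.orderOf_eq (MulAut.conj (t ^ i)) (h ^ r))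
  have hm0 : 0 < m := by rw [← hmo]; exact orderOf_pos _
  -- the eigenvalues are not zero
  have hb0 : ∀ i, ∀ b ∈ eig φ ⟨t ^ i * h ^ r * (t ^ i)⁻¹, hA.conj_mem _ hrA _⟩, b ^ m = 1 ∧ b ≠ 0 := by
    intro i b hb
    have h1 := (hE _).1 b hb
    rw [hco] at h1
    refine ⟨h1, ?_⟩
    rintro rfl
    rw [zero_pow hm0.ne'] at h1
    exact zero_ne_one h1
  constructor
  · intro z hz
    rw [Multiset.mem_sum] at hz
    obtain ⟨i, -, hz⟩ := hz
    rw [Multiset.mem_bind] at hz
    obtain ⟨b, hb, hz⟩ := hz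
    rw [Finset.mem_val, mem_nthRootsFinset hr0] at hz
    rw [hm, pow_mul, hz]
    exact (hb0 i b hb).1
  · intro j
    -- the power sums
    have h1 : ((∑ i ∈ range (A.index / r), (eig φ ⟨t ^ i * h ^ r * (t ^ i)⁻¹, hA.conj_mem _ hrA _⟩).bind
        fun b => (nthRootsFinset r b).val).map fun z => z ^ j).sum =
        ∑ i ∈ range (A.index / r), ((eig φ ⟨t ^ i * h ^ r * (t ^ i)⁻¹, hA.conj_mem _ hrA _⟩).map fun b =>
          if r ∣ j then (r : ℂ) * b ^ (j / r) else 0).sum := by
      rw [← Multiset.coe_mapAddMonoidHom, map_sum, ← Multiset.coe_sumAddMonoidHom, map_sum]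
      refine Finset.sum_congr rfl fun i _ => ?_
      rw [Multiset.coe_sumAddMonoidHom, Multiset.coe_mapAddMonoidHom, Multiset.map_bind, Multiset.sum_bind]
      refine congrArg Multiset.sum (Multiset.map_congr rfl fun b hb => ?_)
      exact sum_roots hr0 (hb0 i b hb).2 j
    rw [h1]
    by_cases hd : r ∣ j
    · obtain ⟨k, rfl⟩ := hd
      have hy : h ^ (r * k) ∈ A := by rw [pow_mul]; exact A.pow_mem hrA k
      rw [indFun_cyclic A ht hφ hr hy (by rw [← pow_succ, ← pow_succ']), Finset.mul_sum]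
      refine Finset.sum_congr rfl fun i _ => ?_
      have h2 := (hE ⟨t ^ i * h ^ r * (t ^ i)⁻¹, hA.conj_mem _ hrA _⟩).2 k
      have h3 : (⟨t ^ i * h ^ r * (t ^ i)⁻¹, hA.conj_mem _ hrA _⟩ : A) ^ k =
          ⟨t ^ i * h ^ (r * k) * (t ^ i)⁻¹, hA.conj_mem _ hy _⟩ := by
        apply Subtype.ext
        rw [Subgroup.coe_pow]
        show (t ^ i * h ^ r * (t ^ i)⁻¹) ^ k = t ^ i * h ^ (r * k) * (t ^ i)⁻¹
        rw [conj_pow, ← pow_mul]
      rw [h3] at h2
      rw [h2]
      simp only [dvd_mul_right, if_true, Nat.mul_div_cancel_left k hr0]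
      rw [Multiset.sum_map_mul_left]
    · have hy : h ^ j ∉ A := by
        intro hy
        apply hd
        rw [← hr]
        apply orderOf_dvd_of_pow_eq_one
        rw [← QuotientGroup.mk_pow]
        exact (QuotientGroup.eq_one_iff _).2 hy
      rw [indFun_of_not_mem A φ hy]
      simp only [if_neg hd]
      symm
      refine Finset.sum_eq_zero fun i _ => ?_
      rw [Multiset.map_const', Multiset.sum_replicate, smul_zero]

theorem pow_order_mem {h : E} {r : ℕ} (hr : orderOf (h : E ⧸ A) = r) : h ^ r ∈ A := by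
  rw [← QuotientGroup.eq_one_iff, QuotientGroup.mk_pow, ← hr, pow_orderOf_eq_one]

/-- **`kap` of an induced character if `E / A` is cyclic** -/
theorem kap_ind (ht : A ⊔ Subgroup.zpowers t = ⊤) {φ : A → ℂ} (hφ : IsClassFunction A φ)
    (hE : ∀ a : A, IsEig φ a (eig φ a)) {h : E} {r : ℕ} (hr : orderOf (h : E ⧸ A) = r) (hrA : h ^ r ∈ A)
    (F : ℂ → ℂ) :
    kap F (indFun A φ) h = ∏ i ∈ range (A.index / r),
      ((eig φ ⟨t ^ i * h ^ r * (t ^ i)⁻¹, hA.conj_mem _ hrA _⟩).map fun b =>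
        ∏ z ∈ nthRootsFinset r b, F z).prod := by
  unfold kap
  rw [eig_eq (isEig_ind A ht hφ hE hr hrA)]
  classical
  induction range (A.index / r) using Finset.induction_on with
  | empty => simp
  | insert a s ha ih =>
    rw [Finset.sum_insert ha, Finset.prod_insert ha, Multiset.map_add, Multiset.prod_add, ih, Multiset.map_bind,
      Multiset.prod_bind]
    rfl

/-- **`kap` of a character induced from a linear character, `E / A` cyclic** -/
theorem kap_ind_lin (ht : A ⊔ Subgroup.zpowers t = ⊤) (lam : A →* ℂˣ) {h : E} {r : ℕ}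
    (hr : orderOf (h : E ⧸ A) = r) (hrA : h ^ r ∈ A) (F : ℂ → ℂ) :
    kap F (indFun A fun x => (lam x : ℂ)) h = ∏ i ∈ range (A.index / r),
      ∏ z ∈ nthRootsFinset r (lam ⟨t ^ i * h ^ r * (t ^ i)⁻¹, hA.conj_mem _ hrA _⟩ : ℂ), F z := by
  rw [kap_ind A ht (φ := fun x => (lam x : ℂ)) (fun g h => by
      show ((lam (h * g * h⁻¹) : ℂˣ) : ℂ) = lam g
      rw [map_mul, map_mul, map_inv, mul_comm (lam h), mul_assoc, mul_inv_cancel, mul_one])
    (fun a => by rw [eig_lin]; exact isEig_lin lam a) hr hrA F]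
  refine Finset.prod_congr rfl fun i _ => ?_
  rw [eig_lin, Multiset.map_singleton, Multiset.prod_singleton]

end Cyclic

/-! ### Prime index -/

section Prime

variable {H : Type u} [Group H] [Fintype H] (N : Subgroup H) [hN : N.Normal] {ℓ : ℕ} {t : H}

theorem sup_eq_top (hℓ : ℓ.Prime) (hi : N.index = ℓ) (ht : t ∉ N) : N ⊔ Subgroup.zpowers t = ⊤ := by
  by_contra hne
  have h1 : N ≤ N ⊔ Subgroup.zpowers t := le_sup_left
  have h2 := Subgroup.relIndex_mul_index h1
  rw [hi] at h2
  have h3 : (N ⊔ Subgroup.zpowers t).index ∣ ℓ := ⟨_, by rw [mul_comm]; exact h2.symm⟩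
  rcases (Nat.dvd_prime hℓ).1 h3 with h4 | h4
  · exact hne (Subgroup.index_eq_one.1 h4)
  · rw [h4] at h2
    have h5 : N.relIndex (N ⊔ Subgroup.zpowers t) = 1 :=
      Nat.eq_of_mul_eq_mul_right hℓ.pos (by rw [h2, one_mul])
    exact ht (Subgroup.relIndex_eq_one.1 h5 (Subgroup.mem_sup_right (Subgroup.mem_zpowers t)))

/-- **`kap` of an induced character on `N`** -/
theorem kap_ind_mem (hℓ : ℓ.Prime) (hi : N.index = ℓ) (ht : t ∉ N) {φ : N → ℂ} (hφ : IsClassFunction N φ)
    (hE : ∀ a : N, IsEig φ a (eig φ a)) (F : ℂ → ℂ) {n : H} (hn : n ∈ N) :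
    kap F (indFun N φ) n = ∏ i ∈ range ℓ, kap F φ ⟨t ^ i * n * (t ^ i)⁻¹, hN.conj_mem _ hn _⟩ := by
  have hr : orderOf (n : H ⧸ N) = 1 := orderOf_eq_one_iff.2 ((QuotientGroup.eq_one_iff n).2 hn)
  have hn1 : n ^ 1 ∈ N := by rw [pow_one]; exact hn
  rw [kap_ind N (sup_eq_top N hℓ hi ht) hφ hE hr hn1 F, hi, Nat.div_one]
  refine Finset.prod_congr rfl fun i _ => ?_
  unfold kap
  have e : (⟨t ^ i * n ^ 1 * (t ^ i)⁻¹, hN.conj_mem _ hn1 _⟩ : N) = ⟨t ^ i * n * (t ^ i)⁻¹, hN.conj_mem _ hn _⟩ := by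
    apply Subtype.ext
    show t ^ i * n ^ 1 * (t ^ i)⁻¹ = t ^ i * n * (t ^ i)⁻¹
    rw [pow_one]
  rw [e]
  refine congrArg Multiset.prod (Multiset.map_congr rfl fun b _ => ?_)
  have h1 : nthRootsFinset 1 b = {b} := by
    ext z
    rw [mem_nthRootsFinset one_pos, pow_one, Finset.mem_singleton]
  rw [h1, Finset.prod_singleton]

/-- **`kap` of an induced character off `N`** -/
theorem kap_ind_not_mem (hℓ : ℓ.Prime) (hi : N.index = ℓ) {φ : N → ℂ} (hφ : IsClassFunction N φ)
    (hE : ∀ a : N, IsEig φ a (eig φ a)) (F : ℂ → ℂ) {h : H} (hh : h ∉ N) (hhℓ : h ^ ℓ ∈ N) :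
    kap F (indFun N φ) h = ((eig φ ⟨h ^ ℓ, hhℓ⟩).map fun b => ∏ z ∈ nthRootsFinset ℓ b, F z).prod := by
  have hr : orderOf (h : H ⧸ N) = ℓ := by
    have h1 : orderOf (h : H ⧸ N) ∣ ℓ := orderOf_dvd_of_pow_eq_one (by
      rw [← QuotientGroup.mk_pow]; exact (QuotientGroup.eq_one_iff _).2 hhℓ)
    rcases (Nat.dvd_prime hℓ).1 h1 with h2 | h2
    · exact absurd ((QuotientGroup.eq_one_iff h).1 (orderOf_eq_one_iff.1 h2)) hh
    · exact h2
  rw [kap_ind N (sup_eq_top N hℓ hi hh) hφ hE hr hhℓ F, hi, Nat.div_self hℓ.pos, Finset.prod_range_one]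
  have e : (⟨h ^ 0 * h ^ ℓ * (h ^ 0)⁻¹, hN.conj_mem _ hhℓ _⟩ : N) = ⟨h ^ ℓ, hhℓ⟩ := by
    apply Subtype.ext
    show h ^ 0 * h ^ ℓ * (h ^ 0)⁻¹ = h ^ ℓ
    rw [pow_zero, one_mul, inv_one, mul_one]
  rw [e]

end Prime

end Cfsg.Agent.H491.KGV
end

-- part: H644/KGV/IndStep
section
/-!
# The inductive step: induction from a normal subgroup of prime index
-/

set_option autoImplicit false

universe u

namespace Cfsg.Agent.H644.KGV

open Cfsg Finset Polynomial

open Cfsg.Agent.H688.KGV (UI.congr)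

/-- The function `1` on `N` and `c a` off `N` for `c a = 1 + ℓ m(a)`. -/
theorem uint_delta {p : ℕ} [Fact p.Prime] {H : Type u} [Group H] [Finite H] (N : Subgroup H)
    [hN : N.Normal] {ℓ : ℕ} (hi : N.index = ℓ) (c : ZMod p → ℂ) (m : ZMod p → ℤ)
    (hc : ∀ a, a ≠ 0 → c a = 1 + (ℓ : ℂ) * ∑ k : ZMod p, (ZMod.stdAddChar (a * k) : ℂ) * (m k : ℂ))
    (δ : ZMod p → H → ℂ) (h1 : ∀ a h, h ∈ N → δ a h = 1) (h2 : ∀ a h, h ∉ N → δ a h = c a) :
    UInt p H δ := by
  classical
  let _ : Fintype H := Fintype.ofFinite H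
  have hρ : UInt p H (fun _ => indFun N (fun _ => (1 : ℂ))) :=
    H688.KGV.UI.ind (p := p) N (H688.KGV.UI.one)
  have hval : ∀ h : H, indFun N (fun _ => (1 : ℂ)) h = if h ∈ N then (ℓ : ℂ) else 0 := by
    intro h
    unfold indFun
    have h3 : ∀ x : H, extendByZero N (fun _ => (1 : ℂ)) (x⁻¹ * h * x) = if h ∈ N then 1 else 0 := by
      intro x
      have h4 : x⁻¹ * h * x ∈ N ↔ h ∈ N := by
        constructor
        · intro h5
          have := hN.conj_mem _ h5 x
          simpa [mul_assoc] using this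
        · intro h5
          have := hN.conj_mem _ h5 x⁻¹
          simpa [mul_assoc] using this
      unfold extendByZero
      by_cases h6 : h ∈ N
      · rw [if_pos h6]
        have h7 : x⁻¹ * h * x = Subtype.val (⟨x⁻¹ * h * x, h4.2 h6⟩ : N) := rfl
        rw [h7, Function.Injective.extend_apply Subtype.val_injective]
      · rw [if_neg h6, Function.extend_apply']
        · rfl
        · rintro ⟨y, hy⟩
          exact h6 (h4.1 (hy ▸ y.2))
    simp only [h3]
    rw [Finset.sum_const, card_univ, nsmul_eq_mul, ← Nat.card_eq_fintype_card]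
    split_ifs with h6
    · rw [mul_one, ← Subgroup.card_mul_index N, hi]
      have h8 : (Nat.card N : ℂ) ≠ 0 := Nat.cast_ne_zero.2 Nat.card_pos.ne'
      push_cast
      field_simp
    · rw [mul_zero, mul_zero]
  have hS : UInt p H (fun a _ => ∑ k : ZMod p, (ZMod.stdAddChar (a * k) : ℂ) * (m k : ℂ)) :=
    H688.KGV.UI.scalar m
  refine H688.KGV.UI.congr (H688.KGV.UI.add (H688.KGV.UI.one (p := p) (G := H))
    (H688.KGV.UI.mul hS (H688.KGV.UI.sub (H688.KGV.UI.intConst (p := p) (G := H) (ℓ : ℤ)) hρ)))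
    fun a ha h => ?_
  rw [hval]
  by_cases h6 : h ∈ N
  · rw [if_pos h6, h1 a h h6]
    push_cast
    ring
  · rw [if_neg h6, h2 a h h6, hc a ha]
    push_cast
    ring

theorem indStep : IndStep.{u} := by
  classical
  intro p _ T hT H _ _ _ N hN ℓ f hp hℓ hi hf hℓf φ hφ hinv F hF hU
  have hpp : p.Prime := Fact.out
  have hℓp : ℓ ≠ p := by
    rintro rfl
    exact hp (hi ▸ Subgroup.index_dvd_card N)
  have hℓ0 : (ℓ : ZMod p) ≠ 0 := by
    intro h
    rw [ZMod.natCast_eq_zero_iff] at h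
    exact hℓp ((Nat.prime_dvd_prime_iff_eq hpp hℓ).1 h).symm
  obtain ⟨t, ht⟩ : ∃ t, t ∉ N := by
    by_contra h
    push Not at h
    have : N = ⊤ := (Subgroup.eq_top_iff' N).2 h
    rw [this, Subgroup.index_top] at hi
    exact hℓ.one_lt.ne hi
  have hpow : ∀ h : H, h ^ ℓ ∈ N := fun h => by
    have := N.pow_index_mem h
    rwa [hi] at this
  have hcl : IsClassFunction N φ := Characters.Core.isCharacter_isClassFunction hφ
  have hE : ∀ a : N, IsEig φ a (eig φ a) := fun a => H500.KGV.eig_spec hφ a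
  -- the tensor induced family
  let κ' : ZMod p → H → ℂ := fun a h =>
    if hh : h ∈ N then ∏ i ∈ range ℓ, kap (F a) φ ⟨t ^ i * h * (t ^ i)⁻¹, hN.conj_mem _ hh _⟩
    else kap (F ((ℓ : ZMod p) * a)) φ ⟨h ^ ℓ, hpow h⟩
  have hκ' : UInt p H κ' := by
    refine H891.KGV.tensorInd p H N ℓ hℓ hℓp hi t ht (fun a => kap (F a) φ) hU κ' ?_ ?_
    · intro a _ n
      simp only [κ', dif_pos n.2]
    · intro a _ h hh hh'
      simp only [κ', dif_neg hh]
  -- the constants
  obtain ⟨m, hm⟩ := hT.cst f ℓ hf hℓ hℓf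
  let δ : ZMod p → H → ℂ := fun a h => if h ∈ N then 1 else cG p T f ℓ a
  have hδ : UInt p H δ := uint_delta N hi (fun a => cG p T f ℓ a) m hm δ
    (fun a h hh => if_pos hh) (fun a h hh => if_neg hh)
  refine H688.KGV.UI.congr (H688.KGV.UI.mul hκ' (H688.KGV.UI.pow hδ (eig φ 1).card))
    fun a ha h => ?_
  by_cases hh : h ∈ N
  · rw [H491.KGV.kap_ind_mem N hℓ hi ht hcl hE (F a) hh]
    simp only [κ', δ, dif_pos hh, if_pos hh, one_pow, mul_one]
  · rw [H491.KGV.kap_ind_not_mem N hℓ hi hcl hE (F a) hh (hpow h)]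
    simp only [κ', δ, dif_neg hh, if_neg hh]
    have hpN : ¬ p ∣ Nat.card N := fun h0 => hp (h0.trans (Subgroup.card_subgroup_dvd_card N))
    rw [H719.KGV.star_multiset hT hℓ ha hf hℓf (hF a ha) (hF _ (mul_ne_zero hℓ0 ha)) hpN
      (eig φ ⟨h ^ ℓ, hpow h⟩) (fun z hz => H500.KGV.pow_card_of_mem_eig hz)
      (H500.KGV.eig_map_pow hφ hinv _), H500.KGV.card_eig_eq hφ _ 1]
    rfl

end Cfsg.Agent.H644.KGV
end

-- part: H521/KGV/HdTwo
section
/-!
# The Hasse-Davenport product formula for `2` (KGV NT2, helper521)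
-/

set_option autoImplicit false

namespace Cfsg.Agent.H521.KGV.HdTwo

open Cfsg Finset Cfsg.Agent.H644.KGV

variable {K : Type} [Field K] [Fintype K]

open Classical in
theorem eta_eq {η : MulChar K ℂ} (_hK : ringChar K ≠ 2) (h1 : η ≠ 1) (h2 : η ^ 2 = 1) (c : K) :
    η c = (quadraticChar K c : ℂ) := by
  have hsq : ∀ d : K, d ≠ 0 → η d * η d = 1 := by
    intro d hd
    have h3 : (η ^ 2) d = 1 := by rw [h2]; exact MulChar.one_apply (Ne.isUnit hd)
    rwa [MulChar.pow_apply' _ two_ne_zero, sq] at h3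
  by_cases hc : c = 0
  · subst hc
    rw [MulChar.map_zero, MulChar.map_zero, Int.cast_zero]
  by_cases hcs : IsSquare c
  · rw [(quadraticChar_one_iff_isSquare hc).2 hcs]
    obtain ⟨d, rfl⟩ := hcs
    have hd : d ≠ 0 := fun h => hc (by rw [h, mul_zero])
    rw [map_mul, hsq d hd, Int.cast_one]
  · obtain ⟨g, hg⟩ : ∃ g : Kˣ, η g ≠ 1 := by
      by_contra hcon
      push Not at hcon
      apply h1
      ext g
      rw [hcon g, MulChar.one_apply g.isUnit]
    have hg1 : η g = -1 := by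
      have h3 := hsq g g.ne_zero
      rcases mul_self_eq_one_iff.1 h3 with h4 | h4
      · exact absurd h4 hg
      · exact h4
    have hgs : ¬ IsSquare (g : K) := by
      rintro ⟨d, hd⟩
      have hd0 : d ≠ 0 := fun h => g.ne_zero (by rw [hd, h, mul_zero])
      rw [hd, map_mul, hsq d hd0] at hg
      exact hg rfl
    have h3 : quadraticChar K c = -1 := quadraticChar_neg_one_iff_not_isSquare.2 hcs
    have h4 : quadraticChar K (g : K) = -1 := quadraticChar_neg_one_iff_not_isSquare.2 hgs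
    have h5 : IsSquare (c * g) := by
      rw [← quadraticChar_one_iff_isSquare (mul_ne_zero hc g.ne_zero), map_mul, h3, h4]
      norm_num
    obtain ⟨d, hd⟩ := h5
    have hd0 : d ≠ 0 := fun h => (mul_ne_zero hc g.ne_zero) (by rw [hd, h, mul_zero])
    have h6 := hsq d hd0
    rw [← map_mul, ← hd, map_mul, hg1] at h6
    rw [h3]
    push_cast
    linear_combination -h6

open Classical in
/-- the number of square roots -/
theorem card_sqrt {η : MulChar K ℂ} (hK : ringChar K ≠ 2) (h1 : η ≠ 1) (h2 : η ^ 2 = 1) (c : K) :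
    ((univ.filter fun a : K => a * a = c).card : ℂ) = 1 + η c := by
  rw [eta_eq hK h1 h2]
  have h := quadraticChar_card_sqrts hK c
  have e : {x : K | x ^ 2 = c}.toFinset = univ.filter fun a : K => a * a = c := by
    ext x
    simp [sq]
  rw [e] at h
  have h3 : (((univ.filter fun a : K => a * a = c).card : ℤ) : ℂ) = ((quadraticChar K c + 1 : ℤ) : ℂ) := by
    rw [h]
  push_cast at h3
  rw [h3]; ring

open Classical in
theorem star {η : MulChar K ℂ} (hK : ringChar K ≠ 2) (h1 : η ≠ 1) (h2 : η ^ 2 = 1) (s a : K) (ha : a ≠ 0) :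
    ∑ x ∈ univ.filter (fun x : K => x * (s - x) = a * a), η x = η (s - 2 * a) + η (s + 2 * a) := by
  have h20 : (2 : K) ≠ 0 := Ring.two_ne_zero hK
  have hsq : ∀ d : K, d ≠ 0 → η d * η d = 1 := by
    intro d hd
    have h3 : (η ^ 2) d = 1 := by rw [h2]; exact MulChar.one_apply (Ne.isUnit hd)
    rwa [MulChar.pow_apply' _ two_ne_zero, sq] at h3
  -- the cardinality
  have hcard : ((univ.filter fun x : K => x * (s - x) = a * a).card : ℂ) = 1 + η (s - 2 * a) * η (s + 2 * a) := by
    rw [← map_mul, ← card_sqrt hK h1 h2]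
    congr 1
    refine card_bij (fun x _ => 2 * x - s) ?_ ?_ ?_
    · intro x hx
      rw [mem_filter] at hx ⊢
      refine ⟨mem_univ _, ?_⟩
      linear_combination (-4 : K) * hx.2
    · intro x _ y _ hxy
      have h3 : 2 * x = 2 * y := by linear_combination hxy
      exact mul_left_cancel₀ h20 h3
    · intro y hy
      rw [mem_filter] at hy
      refine ⟨(y + s) / 2, ?_, by field_simp; ring⟩
      rw [mem_filter]
      refine ⟨mem_univ _, ?_⟩
      field_simp
      linear_combination (-1 : K) * hy.2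
  have key : ∀ e : K, e * e = a * a → e ≠ 0 → s + 2 * e ≠ 0 → ∀ x : K, x * (s - x) = a * a → η x = η (s + 2 * e) := by
    intro e he he0 hse x hx
    have hx0 : x ≠ 0 := by
      rintro rfl
      rw [zero_mul] at hx
      exact ha (mul_self_eq_zero.1 hx.symm)
    have h3 : x * (s + 2 * e) = (x + e) * (x + e) := by linear_combination hx - he
    have h4 : x + e ≠ 0 := by
      intro h
      rw [h, mul_zero] at h3
      rcases mul_eq_zero.1 h3 with h5 | h5
      · exact hx0 h5
      · exact hse h5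
    have h5 : η x * η (s + 2 * e) = 1 := by rw [← map_mul, h3, map_mul, hsq _ h4]
    have h6 := hsq (s + 2 * e) hse
    calc η x = η x * (η (s + 2 * e) * η (s + 2 * e)) := by rw [h6, mul_one]
      _ = (η x * η (s + 2 * e)) * η (s + 2 * e) := by ring
      _ = _ := by rw [h5, one_mul]
  by_cases hs : s + 2 * a = 0
  · -- `s - 2 a = - 4 a`
    have hs' : s + 2 * (-a) ≠ 0 := by
      intro h
      have h3 : 2 * (2 * a) = 0 := by linear_combination hs - h
      exact ha ((mul_eq_zero.1 ((mul_eq_zero.1 h3).resolve_left h20)).resolve_left h20)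
    have e : s + 2 * (-a) = s - 2 * a := by ring
    rw [sum_congr rfl fun x hx => key (-a) (by ring) (neg_ne_zero.2 ha) hs' x (mem_filter.1 hx).2, sum_const,
      nsmul_eq_mul, hcard, e]
    rw [e] at hs'
    have h3 := hsq _ hs'
    linear_combination η (s + 2 * a) * h3
  · rw [sum_congr rfl fun x hx => key a rfl ha hs x (mem_filter.1 hx).2, sum_const, nsmul_eq_mul, hcard]
    have h3 := hsq _ hs
    linear_combination η (s - 2 * a) * h3

open Classical in
theorem coeff {χ η : MulChar K ℂ} (hK : ringChar K ≠ 2) (h1 : η ≠ 1) (h2 : η ^ 2 = 1) (s : K) :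
    ∑ x : K, χ x * (χ * η) (s - x) = ∑ a : K, (χ ^ 2) a * η (s - 2 * a) := by
  have hsq : ∀ d : K, d ≠ 0 → η d * η d = 1 := by
    intro d hd
    have h3 : (η ^ 2) d = 1 := by rw [h2]; exact MulChar.one_apply (Ne.isUnit hd)
    rwa [MulChar.pow_apply' _ two_ne_zero, sq] at h3
  -- the double sum
  have hD1 : ∑ x : K, ∑ a ∈ univ.filter (fun a : K => a * a = x * (s - x)), χ (x * (s - x)) * η x =
      2 * ∑ x : K, χ x * (χ * η) (s - x) := by
    have h3 : ∀ x : K, ∑ a ∈ univ.filter (fun a : K => a * a = x * (s - x)), χ (x * (s - x)) * η x =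
        χ x * χ (s - x) * η x + χ x * χ (s - x) * η (s - x) := by
      intro x
      rw [sum_const, nsmul_eq_mul, card_sqrt hK h1 h2, map_mul, map_mul]
      by_cases hx : x = 0
      · subst hx
        simp only [MulChar.map_zero]; ring
      · have h4 := hsq x hx
        linear_combination (χ x * χ (s - x) * η (s - x)) * h4
    rw [sum_congr rfl fun x _ => h3 x, sum_add_distrib]
    have h4 : ∑ x : K, χ x * χ (s - x) * η x = ∑ x : K, χ x * χ (s - x) * η (s - x) := by
      refine Fintype.sum_equiv (Equiv.subLeft s) _ _ fun x => ?_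
      rw [Equiv.subLeft_apply, sub_sub_cancel]; ring
    rw [h4, ← two_mul]
    congr 1
    refine sum_congr rfl fun x _ => ?_
    rw [MulChar.mul_apply]; ring
  have hD2 : ∑ x : K, ∑ a ∈ univ.filter (fun a : K => a * a = x * (s - x)), χ (x * (s - x)) * η x =
      2 * ∑ a : K, (χ ^ 2) a * η (s - 2 * a) := by
    have h3 : ∑ x : K, ∑ a ∈ univ.filter (fun a : K => a * a = x * (s - x)), χ (x * (s - x)) * η x =
        ∑ a : K, ∑ x ∈ univ.filter (fun x : K => x * (s - x) = a * a), χ (a * a) * η x := by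
      simp only [sum_filter]
      rw [sum_comm]
      refine sum_congr rfl fun a _ => sum_congr rfl fun x _ => ?_
      by_cases h : a * a = x * (s - x)
      · rw [if_pos h, if_pos h.symm, h]
      · rw [if_neg h, if_neg fun h' => h h'.symm]
    have h4 : ∀ a : K, ∑ x ∈ univ.filter (fun x : K => x * (s - x) = a * a), χ (a * a) * η x =
        (χ ^ 2) a * η (s - 2 * a) + (χ ^ 2) a * η (s + 2 * a) := by
      intro a
      rw [← mul_sum, MulChar.pow_apply' _ two_ne_zero, sq, map_mul]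
      by_cases ha : a = 0
      · subst ha
        rw [MulChar.map_zero]; ring
      · rw [star hK h1 h2 s a ha]; ring
    rw [h3, sum_congr rfl fun a _ => h4 a, sum_add_distrib, two_mul]
    congr 1
    refine Fintype.sum_equiv (Equiv.neg K) _ _ fun a => ?_
    rw [Equiv.neg_apply, MulChar.pow_apply' _ two_ne_zero, MulChar.pow_apply' _ two_ne_zero]
    have h5 : χ (-a) ^ 2 = χ a ^ 2 := by rw [← map_pow, ← map_pow, neg_sq]
    rw [h5]
    congr 2
    ring
  have h3 := hD1.symm.trans hD2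
  exact mul_left_cancel₀ two_ne_zero h3

/-- **Hasse-Davenport for `2`.** -/
theorem hdTwo : HDTwo := by
  intro K _ _ χ η ψ _ hK h1 h2
  rw [gaussSum_mul]
  have h3 : gaussSum (χ ^ 2) (ψ.mulShift 2) * gaussSum η ψ = ∑ t : K, ∑ a : K, (χ ^ 2) a * η (t - 2 * a) * ψ t := by
    rw [gaussSum, gaussSum, sum_mul_sum, sum_comm]
    rw [sum_comm, sum_comm (s := univ (α := K)) (t := univ (α := K)) (f := fun t a => (χ ^ 2) a * η (t - 2 * a) * ψ t)]
    refine sum_congr rfl fun a _ => ?_
    refine Fintype.sum_equiv (Equiv.addRight (2 * a)) _ _ fun b => ?_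
    rw [Equiv.coe_addRight, AddChar.mulShift_apply, add_sub_cancel_right, AddChar.map_add_eq_mul]
    ring
  rw [h3]
  refine sum_congr rfl fun t _ => ?_
  rw [← sum_mul, ← sum_mul, coeff hK h1 h2]

end Cfsg.Agent.H521.KGV.HdTwo
end

-- part: H766/KGV/Stick
section
/-!
# Stickelberger's congruence for Gauss sums

`K` a finite field of characteristic `p` with `p ^ f` elements, `R` a local domain whose residue
field contains `K` (via `j`), `T : MulChar K R` the Teichmueller character (lifting `j`), `ψ` the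
additive character `x ↦ ζ ^ (Tr x)`, `ζ ^ p = 1`.  For `a < p ^ f - 1` the Gauss sum
`g a = - ∑ T x ^ (-a) ψ x` is `(ζ - 1) ^ s(a) * u`, `u` a unit, `u * γ(a) = 1` in the residue
field, `s(a)` the digit sum and `γ(a)` the product of the factorials of the `p`-adic digits of `a`.
-/

set_option autoImplicit false

open Finset IsLocalRing

namespace Cfsg.Agent.H766.KGV.Stick

section Field

variable {K : Type*} [Field K] [Fintype K]

/-- `∑_{x ≠ 0} x⁻¹ ^ b (1 - x)⁻¹ = - (b + 1)` for `b < q - 1`. -/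
theorem sum_inv_pow_mul [DecidableEq K] (hq : 2 < Fintype.card K) (b : ℕ)
    (hb : b < Fintype.card K - 1) :
    ∑ x : Kˣ, ((x⁻¹ : Kˣ) : K) ^ b * (1 - (x : K))⁻¹ = - ((b : K) + 1) := by
  induction b with
  | zero =>
    simp only [pow_zero, one_mul, Nat.cast_zero, zero_add]
    have h1 : ∑ x : K, (1 - x)⁻¹ = 0 := by
      have : ∑ x : K, (1 - x)⁻¹ = ∑ x : K, x⁻¹ :=
        Fintype.sum_bijective (fun x => 1 - x) (Equiv.subLeft (1 : K)).bijective _ _ (fun x => rfl)
      rw [this]
      have h2 : ∑ x : K, x⁻¹ = ∑ x : K, x := by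
        refine Fintype.sum_bijective (fun x : K => x⁻¹) inv_involutive.bijective _ _ (fun x => rfl)
      rw [h2]
      have := FiniteField.sum_pow_lt_card_sub_one K 1 (by omega)
      simpa using this
    have h3 : ∑ x : K, (1 - x)⁻¹ = (1 - (0 : K))⁻¹ + ∑ x : Kˣ, (1 - (x : K))⁻¹ := by
      have := Fintype.sum_eq_add_sum_subtype_ne (fun x : K => (1 - x)⁻¹) 0
      rw [this]
      congr 1
      refine (Fintype.sum_equiv unitsEquivNeZero _ _ ?_).symm
      intro x
      simp [unitsEquivNeZero]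
    rw [h1] at h3
    simp only [sub_zero, inv_one] at h3
    linear_combination -h3
  | succ b ih =>
    have ih' := ih (by omega)
    have key : ∀ x : Kˣ, ((x⁻¹ : Kˣ) : K) ^ (b + 1) * (1 - (x : K))⁻¹
        = ((x⁻¹ : Kˣ) : K) ^ b * (1 - (x : K))⁻¹ + (((x⁻¹ : Kˣ) : K) ^ (b + 1)
          - (if x = 1 then 1 else 0)) := by
      intro x
      by_cases hx : x = 1
      · subst hx; simp
      · have hx' : (1 - (x : K)) ≠ 0 := by
          intro h
          apply hx
          ext
          rw [Units.val_one]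
          linear_combination -h
        rw [if_neg hx]
        have hx0 : (x : K) ≠ 0 := x.ne_zero
        rw [Units.val_inv_eq_inv_val, pow_succ]
        have h7 : ((x : K))⁻¹ * (1 - (x : K))⁻¹ = (1 - (x : K))⁻¹ + (x : K)⁻¹ := by
          field_simp
          ring
        rw [mul_assoc, h7]
        ring
    rw [Finset.sum_congr rfl (fun x _ => key x), Finset.sum_add_distrib, ih',
      Finset.sum_sub_distrib]
    have h4 : ∑ x : Kˣ, ((x⁻¹ : Kˣ) : K) ^ (b + 1) = 0 := by
      have : ∑ x : Kˣ, ((x⁻¹ : Kˣ) : K) ^ (b + 1) = ∑ x : Kˣ, ((x : Kˣ) : K) ^ (b + 1) :=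
        Fintype.sum_bijective (fun x : Kˣ => x⁻¹) (Equiv.inv Kˣ).bijective _ _ (fun x => rfl)
      rw [this]
      have h5 := FiniteField.sum_pow_units K (b + 1)
      rw [h5, if_neg]
      intro h
      have := Nat.le_of_dvd (by omega) h
      omega
    rw [h4]
    simp
    ring

/-- `∑ x⁻¹ Tr x = -1`. -/
theorem sum_inv_mul_trace [DecidableEq K] {p : ℕ} (hp : p.Prime) {f : ℕ} (hf : f ≠ 0)
    (hK : Fintype.card K = p ^ f) (hq : 2 < Fintype.card K) :
    ∑ x : Kˣ, ((x⁻¹ : Kˣ) : K) * ∑ i ∈ range f, (x : K) ^ (p ^ i) = -1 := by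
  have hc : (Fintype.card Kˣ) = Fintype.card K - 1 := Fintype.card_units K
  have h1 : ∑ x : Kˣ, ((x⁻¹ : Kˣ) : K) * ∑ i ∈ range f, (x : K) ^ (p ^ i)
      = ∑ i ∈ range f, ∑ x : Kˣ, (x : K) ^ (p ^ i - 1) := by
    rw [Finset.sum_comm]
    refine Finset.sum_congr rfl fun x _ => ?_
    rw [Finset.mul_sum]
    refine Finset.sum_congr rfl fun i _ => ?_
    have : 0 < p ^ i := pow_pos hp.pos i
    obtain ⟨m, hm⟩ := Nat.exists_eq_succ_of_ne_zero this.ne'
    rw [hm, Nat.succ_sub_one, Nat.succ_eq_add_one, pow_succ]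
    rw [mul_comm ((x : K) ^ m) (x : K), ← mul_assoc, Units.inv_mul, one_mul]
  rw [h1]
  obtain ⟨f', rfl⟩ := Nat.exists_eq_succ_of_ne_zero hf
  rw [Finset.sum_range_succ']
  have h2 : ∑ i ∈ range f', ∑ x : Kˣ, (x : K) ^ (p ^ (i + 1) - 1) = 0 := by
    refine Finset.sum_eq_zero fun i hi => ?_
    rw [FiniteField.sum_pow_units, if_neg]
    intro h
    have hpi : 1 < p ^ (i + 1) := Nat.one_lt_pow (by omega) hp.one_lt
    have h3 := Nat.le_of_dvd (by omega) h
    rw [hK] at h3
    have h4 : p ^ (i + 1) < p ^ (f' + 1) := Nat.pow_lt_pow_right hp.one_lt (by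
      have := Finset.mem_range.1 hi
      omega)
    have h5 : 0 < p ^ (f' + 1) := pow_pos hp.pos _
    simp only [Nat.succ_eq_add_one] at h3
    omega
  rw [h2]
  simp only [pow_zero, Nat.sub_self, Finset.sum_const, Finset.card_univ, zero_add]
  rw [hc, nsmul_eq_mul, mul_one, Nat.cast_sub (by omega)]
  rw [FiniteField.cast_card_eq_zero]
  simp

end Field

/-- The data for Stickelberger's congruence. -/
structure Setting (p f : ℕ) (K R : Type*) [Field K] [Fintype K] [CommRing R] [IsDomain R]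
    [IsLocalRing R] where
  hp : p.Prime
  hf : f ≠ 0
  hK : Fintype.card K = p ^ f
  T : MulChar K R
  j : K →+* ResidueField R
  hT : ∀ x, residue R (T x) = j x
  ψ : AddChar K R
  ζ : R
  hζ : ζ ^ p = 1
  hψ : ∀ x : K, ∃ t : ℕ, ψ x = ζ ^ t ∧ (t : K) = ∑ i ∈ range f, x ^ (p ^ i)
  hψ1 : ψ ≠ 1

namespace Setting

variable {p f : ℕ} {K R : Type*} [Field K] [Fintype K] [CommRing R] [IsDomain R]
    [IsLocalRing R] (S : Setting p f K R)

include S in
theorem charP : CharP K p := by
  have h : ringChar K ∣ p := by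
    have h1 : ((p ^ f : ℕ) : K) = 0 := by rw [← S.hK]; exact FiniteField.cast_card_eq_zero K
    rw [ringChar.spec] at h1
    have h2 : (ringChar K).Prime := CharP.char_is_prime K (ringChar K)
    rw [(Nat.prime_dvd_prime_iff_eq h2 S.hp).1 (h2.dvd_of_dvd_pow h1)]
  have h2 : (ringChar K).Prime := CharP.char_is_prime K (ringChar K)
  have := (Nat.prime_dvd_prime_iff_eq h2 S.hp).1 h
  rw [← this]
  exact ringChar.charP K

include S in
theorem charP_res : CharP (ResidueField R) p := by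
  have := S.charP
  exact charP_of_injective_ringHom (S.j.injective) p

theorem residue_ζ : residue R S.ζ = 1 := by
  have := S.charP_res
  have : Fact p.Prime := ⟨S.hp⟩
  have h : (residue R S.ζ - 1) ^ p = 0 := by
    rw [sub_pow_char, one_pow, ← map_pow, S.hζ, map_one, sub_self]
  have := pow_eq_zero_iff (S.hp.ne_zero) |>.1 h
  linear_combination this

/-- The Gauss sum `- ∑ T(x)^(-a) ψ(x)`. -/
noncomputable def g (a : ℕ) : R := - gaussSum (S.T⁻¹ ^ a) S.ψ

theorem g_zero : S.g 0 = 1 := by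
  rw [g, pow_zero, gaussSum_one_left S.hψ1, neg_neg]

theorem inv_pow_apply (a : ℕ) (x : Kˣ) : (S.T⁻¹ ^ a) (x : K) = S.T ((x⁻¹ : Kˣ) : K) ^ a := by
  rw [MulChar.pow_apply_coe, MulChar.inv_apply', Units.val_inv_eq_inv_val]

theorem T_pow_ne_one {a : ℕ} (ha : 0 < a) (ha' : a < Fintype.card K - 1) : S.T⁻¹ ^ a ≠ 1 := by
  classical
  intro h
  have h1 : ∀ x : Kˣ, x ^ a = 1 := by
    intro x
    have h2 := congrArg (fun χ : MulChar K R => χ ((x⁻¹ : Kˣ) : K)) h
    simp only [MulChar.one_apply_coe] at h2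
    rw [inv_pow_apply, inv_inv] at h2
    have h3 : S.j ((x : K) ^ a) = 1 := by
      rw [map_pow, ← S.hT, ← map_pow, h2, map_one]
    have h4 : (x : K) ^ a = 1 := S.j.injective (by rw [h3, map_one])
    ext
    rw [Units.val_pow_eq_pow_val, h4, Units.val_one]
  have h5 : Fintype.card Kˣ ∣ a := by
    obtain ⟨y, hy⟩ := IsCyclic.exists_generator (α := Kˣ)
    have h6 := orderOf_dvd_of_pow_eq_one (h1 y)
    rwa [orderOf_eq_card_of_forall_mem_zpowers hy, Nat.card_eq_fintype_card] at h6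
  rw [Fintype.card_units K] at h5
  have := Nat.le_of_dvd ha h5
  omega

/-- Sum over units. -/
theorem gaussSum_units [DecidableEq K] (χ : MulChar K R) (ψ : AddChar K R) :
    gaussSum χ ψ = ∑ x : Kˣ, χ (x : K) * ψ (x : K) := by
  classical
  rw [gaussSum, Fintype.sum_eq_add_sum_subtype_ne _ (0 : K), MulChar.map_zero, zero_mul, zero_add]
  refine (Fintype.sum_equiv unitsEquivNeZero _ _ ?_).symm
  intro x
  simp [unitsEquivNeZero]

theorem g_one (hq : 2 < Fintype.card K) :
    ∃ u : R, S.g 1 = (S.ζ - 1) * u ∧ residue R u = 1 := by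
  classical
  have := S.charP_res
  choose t ht ht' using S.hψ
  have hexp : ∀ n : ℕ, ∃ w : R, S.ζ ^ n = 1 + n * (S.ζ - 1) + (S.ζ - 1) ^ 2 * w := by
    intro n
    induction n with
    | zero => exact ⟨0, by simp⟩
    | succ n ih =>
      obtain ⟨w, hw⟩ := ih
      refine ⟨w * S.ζ + n, ?_⟩
      rw [pow_succ, hw]
      push_cast
      ring
  choose w hw using hexp
  have h0 : ∑ x : Kˣ, (S.T⁻¹ ^ 1) (x : K) = 0 := by
    have h1 := MulChar.sum_eq_zero_of_ne_one (S.T_pow_ne_one (a := 1) one_pos (by omega))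
    rw [Fintype.sum_eq_add_sum_subtype_ne _ (0 : K), MulChar.map_zero, zero_add] at h1
    rw [← h1]
    refine Fintype.sum_equiv unitsEquivNeZero _ _ ?_
    intro x
    simp [unitsEquivNeZero]
  refine ⟨- ∑ x : Kˣ, (S.T⁻¹ ^ 1) (x : K) * ((t x : R) + (S.ζ - 1) * w (t x)), ?_, ?_⟩
  · rw [g, gaussSum_units]
    have : ∀ x : Kˣ, (S.T⁻¹ ^ 1) (x : K) * S.ψ (x : K) = (S.T⁻¹ ^ 1) (x : K)
        + (S.ζ - 1) * ((S.T⁻¹ ^ 1) (x : K) * ((t x : R) + (S.ζ - 1) * w (t x))) := by
      intro x
      rw [ht, hw]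
      ring
    rw [Finset.sum_congr rfl (fun x _ => this x), Finset.sum_add_distrib, h0, zero_add,
      ← Finset.mul_sum, mul_neg]
  · rw [map_neg, map_sum]
    have h2 : ∀ x : Kˣ, residue R ((S.T⁻¹ ^ 1) (x : K) * ((t x : R) + (S.ζ - 1) * w (t x)))
        = S.j (((x⁻¹ : Kˣ) : K) * ∑ i ∈ range f, (x : K) ^ (p ^ i)) := by
      intro x
      rw [map_mul, map_add, map_mul, map_sub, S.residue_ζ, map_one, sub_self, zero_mul, add_zero,
        inv_pow_apply, pow_one, S.hT, map_natCast, map_mul, ← ht' x, map_natCast]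
    rw [Finset.sum_congr rfl (fun x _ => h2 x), ← map_sum,
      sum_inv_mul_trace S.hp S.hf S.hK hq]
    simp

theorem residue_jacobi (hq : 2 < Fintype.card K) {b : ℕ} (hb : b < Fintype.card K - 1) :
    residue R (- jacobiSum (S.T⁻¹ ^ b) (S.T⁻¹)) = ((b + 1 : ℕ) : ResidueField R) := by
  classical
  have h1 : residue R (jacobiSum (S.T⁻¹ ^ b) (S.T⁻¹))
      = S.j (∑ x : Kˣ, ((x⁻¹ : Kˣ) : K) ^ b * (1 - (x : K))⁻¹) := by
    rw [jacobiSum, Fintype.sum_eq_add_sum_subtype_ne _ (0 : K), MulChar.map_zero, zero_mul,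
      zero_add, map_sum, map_sum]
    refine (Fintype.sum_equiv unitsEquivNeZero _ _ ?_).symm
    intro x
    simp only [unitsEquivNeZero, Equiv.coe_fn_mk]
    rw [map_mul, inv_pow_apply, MulChar.inv_apply', map_mul, map_pow, map_pow, S.hT, S.hT]
  rw [map_neg, h1, sum_inv_pow_mul hq b hb]
  simp

theorem step {a : ℕ} (ha : a + 1 < Fintype.card K - 1) :
    S.g a * S.g 1 = (- jacobiSum (S.T⁻¹ ^ a) (S.T⁻¹)) * S.g (a + 1) := by
  have h := jacobiSum_mul_nontrivial (χ := S.T⁻¹ ^ a) (φ := S.T⁻¹) (by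
    rw [← pow_succ]
    exact S.T_pow_ne_one (Nat.succ_pos _) ha) S.ψ
  rw [g, g, g, pow_one, pow_succ]
  linear_combination -h

theorem ζ_pow_eq {s t : ℕ} (h : (s : K) = (t : K)) : S.ζ ^ s = S.ζ ^ t := by
  have := S.charP
  have := (CharP.natCast_eq_natCast K p).1 h
  rw [← Nat.mod_add_div s p, ← Nat.mod_add_div t p, pow_add, pow_add, pow_mul, pow_mul, S.hζ,
    one_pow, one_pow, this]

theorem g_frob (a : ℕ) : S.g (p * a) = S.g a := by
  classical
  have := S.charP
  have : Fact p.Prime := ⟨S.hp⟩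
  rw [g, g, gaussSum, gaussSum]
  congr 1
  refine Fintype.sum_bijective (fun x : K => x ^ p) (by
    have := (frobenius_inj K p)
    exact Finite.injective_iff_bijective.1 this) _ _ ?_
  intro x
  have h1 : S.ψ (x ^ p) = S.ψ x := by
    obtain ⟨s, hs, hs'⟩ := S.hψ x
    obtain ⟨t, ht, ht'⟩ := S.hψ (x ^ p)
    rw [hs, ht]
    refine S.ζ_pow_eq ?_
    rw [hs', ht']
    obtain ⟨f', hf'⟩ := Nat.exists_eq_succ_of_ne_zero S.hf
    have h2 : x ^ (p ^ f) = x := by rw [← S.hK]; exact FiniteField.pow_card x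
    rw [hf', Finset.sum_range_succ, Finset.sum_range_succ', pow_zero, pow_one]
    rw [hf'] at h2
    congr 1
    · refine Finset.sum_congr rfl fun i _ => ?_
      rw [← pow_mul, pow_succ, mul_comm]
    · rw [← pow_mul, ← Nat.pow_succ', h2]
  rw [h1]
  congr 1
  by_cases hx : x = 0
  · subst hx
    rw [zero_pow S.hp.ne_zero, MulChar.map_zero, MulChar.map_zero]
  · have e1 := S.inv_pow_apply (p * a) (Units.mk0 x hx)
    have e2 := S.inv_pow_apply a ((Units.mk0 x hx) ^ p)
    simp only [Units.val_mk0, Units.val_pow_eq_pow_val] at e1 e2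
    rw [e1, e2]
    rw [← inv_pow, Units.val_pow_eq_pow_val, map_pow, pow_mul]

/-- **Stickelberger's congruence.** -/
theorem stickelberger (a : ℕ) (ha : a < Fintype.card K - 1) :
    ∃ u : R, S.g a = (S.ζ - 1) ^ (Nat.digits p a).sum * u ∧
      residue R u * (((Nat.digits p a).map Nat.factorial).prod : ℕ) = 1 := by
  classical
  have := S.charP
  have := S.charP_res
  have hp1 := S.hp.one_lt
  induction a using Nat.strong_induction_on with
  | _ a ih =>
  rcases Nat.eq_zero_or_pos a with rfl | hpos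
  · refine ⟨1, ?_, ?_⟩
    · rw [S.g_zero]; simp
    · simp
  · have hq : 2 < Fintype.card K := by omega
    by_cases hdvd : p ∣ a
    · obtain ⟨b, rfl⟩ := hdvd
      have hb : 0 < b := Nat.pos_of_mul_pos_left hpos |> fun h => by
        rcases Nat.eq_zero_or_pos b with rfl | h
        · simp at hpos
        · exact h
      have hlt : b < p * b := by nlinarith
      obtain ⟨u, hu, hu'⟩ := ih b hlt (by omega)
      have hd : Nat.digits p (p * b) = 0 :: Nat.digits p b := by
        have := Nat.digits_add_two_add_one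
        rw [Nat.digits_def' hp1 hpos]
        simp [Nat.mul_div_cancel_left b S.hp.pos]
      refine ⟨u, ?_, ?_⟩
      · rw [S.g_frob, hu, hd]; simp
      · rw [hd]; simpa using hu'
    · obtain ⟨a', rfl⟩ := Nat.exists_eq_succ_of_ne_zero hpos.ne'
      obtain ⟨u, hu, hu'⟩ := ih a' (Nat.lt_succ_self _) (by omega)
      obtain ⟨v, hv, hv'⟩ := S.g_one hq
      have hst := S.step (a := a') ha
      set J := - jacobiSum (S.T⁻¹ ^ a') (S.T⁻¹) with hJ
      have hJr : residue R J = ((a' + 1 : ℕ) : ResidueField R) := S.residue_jacobi hq (by omega)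
      have hJ0 : residue R J ≠ 0 := by
        rw [hJr]
        intro h
        exact hdvd ((CharP.cast_eq_zero_iff _ p _).1 h)
      have hJu : IsUnit J := by
        by_contra h
        exact hJ0 ((residue_eq_zero_iff _).2 ((mem_maximalIdeal _).2 h))
      obtain ⟨J', hJ'⟩ := hJu
      have hdig : ∃ c l, c + 1 < p ∧ Nat.digits p (a' + 1) = (c + 1) :: l ∧
          (Nat.digits p a').sum = c + l.sum ∧
          ((Nat.digits p a').map Nat.factorial).prod = c.factorial * (l.map Nat.factorial).prod ∧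
          ((a' + 1 : ℕ) : ResidueField R) = ((c + 1 : ℕ) : ResidueField R) := by
        have hm : (a' + 1) % p ≠ 0 := fun h => hdvd (Nat.dvd_of_mod_eq_zero h)
        obtain ⟨c, hc⟩ := Nat.exists_eq_succ_of_ne_zero hm
        have hclt : (a' + 1) % p < p := Nat.mod_lt _ S.hp.pos
        refine ⟨c, Nat.digits p ((a' + 1) / p), by omega, ?_, ?_⟩
        · rw [Nat.digits_def' hp1 (Nat.succ_pos _), hc]
        · have ha'' : a' = c + p * ((a' + 1) / p) := by
            have := Nat.mod_add_div (a' + 1) p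
            omega
          have hcast : ((a' + 1 : ℕ) : ResidueField R) = ((c + 1 : ℕ) : ResidueField R) := by
            rw [CharP.natCast_eq_natCast _ p]
            show (a' + 1) % p = (c + 1) % p
            rw [← Nat.succ_eq_add_one c, ← hc, Nat.mod_mod]
          refine ⟨?_, ?_, hcast⟩
          · rcases Nat.eq_zero_or_pos a' with h0 | h0
            · subst h0
              have h1 : (0 + 1) / p = 0 := Nat.div_eq_of_lt (by omega)
              have h2 : c = 0 := by rw [h1] at ha''; omega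
              rw [h1, h2]; simp
            · rw [Nat.digits_def' hp1 h0]
              have h1 : a' % p = c := by
                rw [ha'', Nat.add_mul_mod_self_left, Nat.mod_eq_of_lt (by omega)]
              have h2 : a' / p = (a' + 1) / p := by
                conv_lhs => rw [ha'']
                rw [Nat.add_mul_div_left _ _ S.hp.pos, Nat.div_eq_of_lt (by omega), zero_add]
              rw [h1, h2, List.sum_cons]
          · rcases Nat.eq_zero_or_pos a' with h0 | h0
            · subst h0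
              have h1 : (0 + 1) / p = 0 := Nat.div_eq_of_lt (by omega)
              have h2 : c = 0 := by rw [h1] at ha''; omega
              rw [h1, h2]; simp
            · rw [Nat.digits_def' hp1 h0]
              have h1 : a' % p = c := by
                rw [ha'', Nat.add_mul_mod_self_left, Nat.mod_eq_of_lt (by omega)]
              have h2 : a' / p = (a' + 1) / p := by
                conv_lhs => rw [ha'']
                rw [Nat.add_mul_div_left _ _ S.hp.pos, Nat.div_eq_of_lt (by omega), zero_add]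
              rw [h1, h2, List.map_cons, List.prod_cons]
      obtain ⟨c, l, hcp, hd1, hd2, hd3, hd4⟩ := hdig
      refine ⟨(J'⁻¹ : Rˣ) * (u * v), ?_, ?_⟩
      · rw [hd1, List.sum_cons]
        have e : J * S.g (a' + 1) = (S.ζ - 1) ^ (c + 1 + l.sum) * (u * v) := by
          rw [← hst, hu, hv, hd2]
          ring
        have e2 : S.g (a' + 1) = (J'⁻¹ : Rˣ) * (J * S.g (a' + 1)) := by
          rw [← hJ', ← mul_assoc, Units.inv_mul, one_mul]
        rw [Nat.succ_eq_add_one, e2, e]
        ring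
      · rw [Nat.succ_eq_add_one, hd1, List.map_cons, List.prod_cons, map_mul, map_mul, hv', mul_one,
          Nat.factorial_succ]
        rw [hd3] at hu'
        have e3 : residue R ((J'⁻¹ : Rˣ) : R) * residue R J = 1 := by
          rw [← map_mul, ← hJ', Units.inv_mul, map_one]
        rw [hJr, hd4] at e3
        push_cast at hu' e3 ⊢
        linear_combination (residue R ((J'⁻¹ : Rˣ) : R) * ((c : ResidueField R) + 1)) * hu' + e3

end Setting

end Cfsg.Agent.H766.KGV.Stick
end

-- part: H766/KGV/Teich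
section
/-!
# Teichmueller characters with values in the algebraic integers

For a finite field `K` of characteristic `p` and a maximal ideal `M` of the ring of algebraic
integers containing `p` there are an embedding `ι : K → AlgInt / M` and a multiplicative character
`ω` of `K` with values in the algebraic integers lifting `ι`.
-/

set_option autoImplicit false

open Finset Polynomial

namespace Cfsg.Agent.H766.KGV

open Cfsg

section Teich

variable {p : ℕ} {M : Ideal AlgInt} (hM : IsPModular p M)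

/-- A primitive root of unity in the algebraic integers. -/
theorem exists_primitiveRoot (N : ℕ) (hN : N ≠ 0) : ∃ ζ : AlgInt, IsPrimitiveRoot ζ N := by
  have h := Complex.isPrimitiveRoot_exp N hN
  have hi : IsIntegral ℤ (Complex.exp (2 * Real.pi * Complex.I / N)) :=
    h.isIntegral (Nat.pos_of_ne_zero hN)
  refine ⟨⟨_, hi⟩, ?_⟩
  refine IsPrimitiveRoot.of_map_of_injective (f := (algebraMap AlgInt ℂ)) ?_ Subtype.val_injective
  exact h

include hM in
theorem charP_quot : CharP (AlgInt ⧸ M) p := by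
  have := hM.2.1
  let _ := Ideal.Quotient.field M
  have h0 : ((p : ℕ) : AlgInt ⧸ M) = 0 := by
    rw [← map_natCast (Ideal.Quotient.mk M)]
    exact Ideal.Quotient.eq_zero_iff_mem.2 hM.2.2
  rcases CharP.exists (AlgInt ⧸ M) with ⟨r, hr⟩
  have hrp : r ∣ p := (CharP.cast_eq_zero_iff (AlgInt ⧸ M) r p).1 h0
  have hr1 : r ≠ 1 := CharP.char_ne_one (AlgInt ⧸ M) r
  rcases (Nat.dvd_prime hM.1).1 hrp with h | h
  · exact absurd h hr1
  · rw [← h]; exact hr

variable (K : Type*) [Field K] [Fintype K] [CharP K p]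

include hM in
theorem exists_teich : ∃ (ι : K →+* AlgInt ⧸ M) (ω : MulChar K AlgInt),
    ∀ x, Ideal.Quotient.mk M (ω x) = ι x := by
  classical
  have := hM.2.1
  let _ := Ideal.Quotient.field M
  have hp : Fact p.Prime := ⟨hM.1⟩
  have hc := charP_quot hM
  let _ : Algebra (ZMod p) K := ZMod.algebra K p
  let _ : Algebra (ZMod p) (AlgInt ⧸ M) := ZMod.algebra (AlgInt ⧸ M) p
  have h1 : 1 < Fintype.card K := Fintype.one_lt_card
  set N := Fintype.card K - 1 with hN
  have hN0 : N ≠ 0 := by omega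
  obtain ⟨ζ, hζ⟩ := exists_primitiveRoot N hN0
  have hprod : (X ^ N - 1 : AlgInt[X]) = ∏ z ∈ nthRootsFinset N (1 : AlgInt), (X - C z) :=
    X_pow_sub_one_eq_prod (Nat.pos_of_ne_zero hN0) hζ
  have hprod' : (X ^ N - 1 : (AlgInt ⧸ M)[X])
      = ∏ z ∈ nthRootsFinset N (1 : AlgInt), (X - C (Ideal.Quotient.mk M z)) := by
    have := congrArg (Polynomial.map (Ideal.Quotient.mk M)) hprod
    simpa [Polynomial.map_prod] using this
  have hpN : ((N : ℕ) : AlgInt ⧸ M) ≠ 0 := by
    intro h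
    have h2 : p ∣ N := (CharP.cast_eq_zero_iff (AlgInt ⧸ M) p N).1 h
    obtain ⟨n, -, hn⟩ := FiniteField.card K p
    have h3 : p ∣ Fintype.card K := by rw [hn]; exact dvd_pow_self p n.pos.ne'
    have h4 : p ∣ 1 := by
      have := Nat.dvd_sub h3 h2
      rwa [show Fintype.card K - N = 1 by omega] at this
    exact hM.1.one_lt.ne' (Nat.dvd_one.1 h4)
  have hsep : (X ^ N - 1 : (AlgInt ⧸ M)[X]).Separable :=
    (X_pow_sub_one_separable_iff).2 hpN
  have hinj : ∀ z ∈ nthRootsFinset N (1 : AlgInt), ∀ w ∈ nthRootsFinset N (1 : AlgInt),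
      Ideal.Quotient.mk M z = Ideal.Quotient.mk M w → z = w := by
    intro z hz w hw h
    by_contra hne
    rw [hprod'] at hsep
    have h2 := hsep.squarefree
    have h3 : (X - C (Ideal.Quotient.mk M z)) * (X - C (Ideal.Quotient.mk M z)) ∣
        ∏ z ∈ nthRootsFinset N (1 : AlgInt), (X - C (Ideal.Quotient.mk M z)) := by
      rw [← Finset.mul_prod_erase _ _ hz, ← Finset.mul_prod_erase _ _
        (Finset.mem_erase.2 ⟨Ne.symm hne, hw⟩), h, ← mul_assoc]
      exact dvd_mul_right _ _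
    exact Polynomial.not_isUnit_X_sub_C _ (h2 _ h3)
  -- the embedding
  have hsplit : (((X : (ZMod p)[X]) ^ Fintype.card K - X).map
      (algebraMap (ZMod p) (AlgInt ⧸ M))).Splits := by
    have h2 : (((X : (ZMod p)[X]) ^ Fintype.card K - X).map
      (algebraMap (ZMod p) (AlgInt ⧸ M))) = X * (X ^ N - 1) := by
      rw [Polynomial.map_sub, Polynomial.map_pow, Polynomial.map_X,
        show Fintype.card K = N + 1 by omega, pow_succ]
      ring
    rw [h2, hprod']
    refine Polynomial.Splits.mul Polynomial.Splits.X ?_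
    exact Polynomial.Splits.prod fun z _ => Polynomial.Splits.X_sub_C _
  let ι : K →ₐ[ZMod p] (AlgInt ⧸ M) :=
    Polynomial.IsSplittingField.lift K ((X : (ZMod p)[X]) ^ Fintype.card K - X) hsplit
  have hroot : ∀ x : Kˣ, ∃ z ∈ nthRootsFinset N (1 : AlgInt), Ideal.Quotient.mk M z = ι x := by
    intro x
    have h2 : (ι x) ^ N = 1 := by
      rw [← map_pow, ← Units.val_pow_eq_pow_val]
      have : x ^ N = 1 := by
        rw [hN, ← Fintype.card_units K]; exact pow_card_eq_one
      rw [this, Units.val_one, map_one]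
    have h3 := congrArg (Polynomial.eval (ι x)) hprod'
    rw [Polynomial.eval_sub, Polynomial.eval_pow, Polynomial.eval_X, Polynomial.eval_one, h2,
      sub_self, Polynomial.eval_prod] at h3
    obtain ⟨z, hz, hz'⟩ := Finset.prod_eq_zero_iff.1 h3.symm
    refine ⟨z, hz, ?_⟩
    rw [Polynomial.eval_sub, Polynomial.eval_X, Polynomial.eval_C] at hz'
    exact (sub_eq_zero.1 hz').symm
  choose ω₀ hω₀ hω₀' using hroot
  have hpow : ∀ x, ω₀ x ^ N = 1 := fun x => (mem_nthRootsFinset (Nat.pos_of_ne_zero hN0) _).1 (hω₀ x)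
  have hone : ω₀ 1 = 1 := by
    refine hinj _ (hω₀ 1) _ ?_ ?_
    · exact (mem_nthRootsFinset (Nat.pos_of_ne_zero hN0) _).2 (one_pow _)
    · rw [hω₀', Units.val_one, map_one, map_one]
  have hmul : ∀ x y, ω₀ (x * y) = ω₀ x * ω₀ y := by
    intro x y
    refine hinj _ (hω₀ _) _ ?_ ?_
    · refine (mem_nthRootsFinset (Nat.pos_of_ne_zero hN0) _).2 ?_
      rw [mul_pow, hpow, hpow, one_mul]
    · rw [hω₀', map_mul, hω₀', hω₀', Units.val_mul, map_mul]
  let ω₁ : Kˣ →* AlgIntˣ := MonoidHom.toHomUnits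
    { toFun := ω₀, map_one' := hone, map_mul' := hmul }
  refine ⟨ι, MulChar.ofUnitHom ω₁, ?_⟩
  intro x
  by_cases hx : x = 0
  · subst hx
    rw [MulChar.map_zero, map_zero]
    exact (map_zero (ι : K →+* AlgInt ⧸ M)).symm
  · have h2 := MulChar.ofUnitHom_coe ω₁ (Units.mk0 x hx)
    rw [Units.val_mk0] at h2
    rw [h2]
    exact hω₀' (Units.mk0 x hx)

end Teich

end Cfsg.Agent.H766.KGV
end

-- part: H766/KGV/StickLight
section
/-!
# Stickelberger's theorem for complex Gauss sums: `stickLight : StickLight`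
-/

set_option autoImplicit false

open Finset IsLocalRing

namespace Cfsg.Agent.H766.KGV

open Cfsg

/-- `s(a) + s(N - a) = f (p - 1)`. -/
theorem digits_compl {p f a : ℕ} (hp : 1 < p) (ha0 : 0 < a) (ha : a < p ^ f - 1) :
    (Nat.digits p a).sum + (Nat.digits p (p ^ f - 1 - a)).sum = f * (p - 1) := by
  have hN : 0 < p ^ f - 1 := by omega
  refine Nat.eq_of_mul_eq_mul_left hN ?_
  rw [mul_add, Digits.mul_digits_sum hp ha, Digits.mul_digits_sum hp (by omega), ← mul_add,
    ← sum_add_distrib]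
  set N := p ^ f - 1 with hNd
  have hcop : Nat.Coprime p N := by
    have hf : f ≠ 0 := by rintro rfl; simp [hNd] at hN
    have h1 : Nat.Coprime (p ^ f) N := by
      rw [show p ^ f = N + 1 by omega]
      simp
    exact (Nat.coprime_pow_left_iff (Nat.pos_of_ne_zero hf) _ _).1 h1
  have h1 : ∀ j ∈ range f, (p ^ j * a) % N + (p ^ j * (N - a)) % N = N := by
    intro j _
    have h2 : (p ^ j * a) % N ≠ 0 := by
      intro h
      have h3 : N ∣ p ^ j * a := Nat.dvd_of_mod_eq_zero h
      have h4 : N ∣ a := (Nat.Coprime.pow_left j hcop).symm.dvd_of_dvd_mul_left h3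
      have := Nat.le_of_dvd ha0 h4
      omega
    have h5 : (p ^ j * a) % N < N := Nat.mod_lt _ hN
    have h6 : (p ^ j * (N - a)) + p ^ j * a = p ^ j * N := by
      rw [← mul_add, Nat.sub_add_cancel ha.le]
    have h7 : ((p ^ j * a) % N + (p ^ j * (N - a)) % N) % N = 0 := by
      rw [← Nat.add_mod, add_comm, h6, Nat.mul_mod_left]
    have h8 : (p ^ j * (N - a)) % N < N := Nat.mod_lt _ hN
    obtain ⟨c, hc⟩ := Nat.dvd_of_mod_eq_zero h7
    have hc1 : c = 1 := by
      rcases Nat.lt_or_ge c 1 with h | h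
      · have : c = 0 := by omega
        rw [this, mul_zero] at hc
        omega
      · rcases Nat.lt_or_ge 1 c with h' | h'
        · have : N * 2 ≤ N * c := Nat.mul_le_mul_left _ h'
          omega
        · omega
    rw [hc, hc1, mul_one]
  rw [sum_congr rfl h1, sum_const, card_range, smul_eq_mul]
  ring

section Loc

variable (M : Ideal AlgInt) [hMp : M.IsPrime]

/-- The local ring at `M`. -/
abbrev RM := Localization.AtPrime M

/-- The embedding of the local ring into the complex numbers. -/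
noncomputable def toC : RM M →+* ℂ :=
  IsLocalization.lift (M := M.primeCompl) (g := algebraMap AlgInt ℂ)
    (fun y => (isUnit_iff_ne_zero).2 (MUnit.coe_ne_zero y.2))

theorem toC_algebraMap (x : AlgInt) : toC M (algebraMap AlgInt (RM M) x) = (x : ℂ) :=
  IsLocalization.lift_eq _ x

theorem toC_mk (x : AlgInt) (y : M.primeCompl) :
    (y : AlgInt) * toC M (IsLocalization.mk' (RM M) x y) = (x : ℂ) := by
  have h := IsLocalization.mk'_spec' (RM M) x y
  have := congrArg (toC M) h
  rwa [map_mul, toC_algebraMap, toC_algebraMap] at this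

theorem toC_injective : Function.Injective (toC M) := by
  rw [injective_iff_map_eq_zero]
  intro r hr
  obtain ⟨x, y, rfl⟩ := IsLocalization.exists_mk'_eq M.primeCompl r
  have h := toC_mk M x y
  rw [hr, mul_zero] at h
  have : x = 0 := Subtype.ext h.symm
  rw [this, IsLocalization.mk'_zero]

theorem munit_of_isUnit {r : RM M} (hr : IsUnit r) : MUnit M (toC M r) := by
  obtain ⟨x, y, rfl⟩ := IsLocalization.exists_mk'_eq M.primeCompl r
  rw [IsLocalization.AtPrime.isUnit_mk'_iff] at hr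
  exact ⟨x, y, hr, y.2, toC_mk M x y⟩

end Loc

theorem map_gaussSum {K R : Type*} [Field K] [Fintype K] [CommRing R] (φ : R →+* ℂ)
    (χ : MulChar K R) (ψ : AddChar K R) :
    φ (gaussSum χ ψ) = gaussSum (χ.ringHomComp φ) ((φ : R →* ℂ).compAddChar ψ) := by
  rw [gaussSum, gaussSum, map_sum]
  refine sum_congr rfl fun x _ => ?_
  rw [map_mul, MulChar.ringHomComp_apply, MonoidHom.compAddChar_apply]
  rfl

/-- All additive characters are shifts of a nontrivial one. -/
theorem exists_mulShift {K : Type*} [Field K] [Fintype K] {ψ₀ : AddChar K ℂ} (h : ψ₀ ≠ 1)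
    (ψ : AddChar K ℂ) : ∃ c : K, ψ = ψ₀.mulShift c := by
  classical
  have h1 : Function.Injective ψ₀.mulShift :=
    AddChar.to_mulShift_inj_of_isPrimitive (AddChar.IsPrimitive.of_ne_one h)
  have h2 : Function.Bijective ψ₀.mulShift :=
    (Fintype.bijective_iff_injective_and_card _).2 ⟨h1, AddChar.card_eq.symm⟩
  obtain ⟨c, hc⟩ := h2.2 ψ
  exact ⟨c, hc.symm⟩

/-- Values of multiplicative characters are units at `M`. -/
theorem munit_mulChar {K : Type*} [Field K] [Fintype K] {M : Ideal AlgInt} (hM : M.IsPrime)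
    (χ : MulChar K ℂ) {c : K} (hc : c ≠ 0) : MUnit M (χ c) := by
  have h1 : χ c ^ (Fintype.card K - 1) = 1 := by
    rw [← map_pow, FiniteField.pow_card_sub_one_eq_one c hc, map_one]
  have hN : 0 < Fintype.card K - 1 := by
    have : 1 < Fintype.card K := Fintype.one_lt_card
    omega
  have hi : IsIntegral ℤ (χ c) := by
    refine ⟨Polynomial.X ^ (Fintype.card K - 1) - 1, Polynomial.monic_X_pow_sub_C 1 hN.ne', ?_⟩
    simp [h1]
  have h2 : (⟨χ c, hi⟩ : AlgInt) ^ (Fintype.card K - 1) = 1 := Subtype.ext h1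
  refine ⟨⟨χ c, hi⟩, 1, ?_, fun h => hM.ne_top ((Ideal.eq_top_iff_one _).2 h), by simp⟩
  intro h
  have h3 : (1 : AlgInt) ∈ M := by
    rw [← h2]
    exact Ideal.pow_mem_of_mem M h _ hN
  exact hM.ne_top ((Ideal.eq_top_iff_one _).2 h3)

/-- Stickelberger's theorem. -/
theorem stickLight : StickLight := by
  classical
  intro p M hM K _ _ _ f hf hq
  have hp : Fact p.Prime := ⟨hM.1⟩
  have hMp : M.IsPrime := hM.2.1.isPrime
  have hf0 : f ≠ 0 := by rintro rfl; simp at hf; omega
  have hp1 := hM.1.one_lt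
  let _ : Algebra (ZMod p) K := ZMod.algebra K p
  obtain ⟨ι, ω, hω⟩ := exists_teich hM K
  obtain ⟨ζ, hζ⟩ := exists_primitiveRoot p hM.1.ne_zero
  let R := RM M
  -- residue map
  have hker : ∀ a : AlgInt, a ∈ M → ((residue R).comp (algebraMap AlgInt R)) a = 0 := by
    intro a ha
    rw [RingHom.comp_apply, residue_eq_zero_iff]
    by_contra h
    rw [mem_maximalIdeal, mem_nonunits_iff, not_not,
      IsLocalization.AtPrime.isUnit_to_map_iff R M] at h
    exact h ha
  let j : K →+* ResidueField R :=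
    (Ideal.Quotient.lift M ((residue R).comp (algebraMap AlgInt R)) hker).comp ι
  let ζR : R := algebraMap AlgInt R ζ
  have hζR : ζR ^ p = 1 := by
    show (algebraMap AlgInt R ζ) ^ p = 1
    rw [← map_pow, hζ.pow_eq_one, map_one]
  let ψ₁ : AddChar (ZMod p) R := AddChar.zmodChar p hζR
  let ψ : AddChar K R := ψ₁.compAddMonoidHom (Algebra.trace (ZMod p) K).toAddMonoidHom
  have hψa : ∀ x, ψ x = ζR ^ (Algebra.trace (ZMod p) K x).val := fun x => rfl
  have hinj := toC_injective M
  have hζC : toC M ζR = (ζ : ℂ) := toC_algebraMap M ζ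
  have hζ1 : ζR ≠ 1 := by
    intro h
    have h1 : (ζ : ℂ) = 1 := by rw [← hζC, h, map_one]
    have h2 : ζ = 1 := Subtype.ext h1
    exact hζ.ne_one hp1 h2
  have hψ1 : ψ ≠ 1 := by
    intro h
    obtain ⟨x, hx⟩ := Algebra.trace_surjective (ZMod p) K (1 : ZMod p)
    have h1 := congrArg (fun φ : AddChar K R => φ x) h
    simp only [hψa, hx, AddChar.one_apply] at h1
    have : Fact (1 < p) := ⟨hp1⟩
    rw [ZMod.val_one p, pow_one] at h1
    exact hζ1 h1
  have hfin : Module.finrank (ZMod p) K = f := by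
    have h1 := Module.card_eq_pow_finrank (K := ZMod p) (V := K)
    rw [ZMod.card, hf] at h1
    exact (Nat.pow_right_injective hp1 h1).symm
  let S : Stick.Setting p f K R :=
    { hp := hM.1
      hf := hf0
      hK := hf
      T := ω.ringHomComp (algebraMap AlgInt R)
      j := j
      hT := by
        intro x
        show residue R (algebraMap AlgInt R (ω x)) = _
        show _ = Ideal.Quotient.lift M ((residue R).comp (algebraMap AlgInt R)) hker (ι x)
        rw [← hω, Ideal.Quotient.lift_mk]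
        rfl
      ψ := ψ
      ζ := ζR
      hζ := hζR
      hψ := by
        intro x
        refine ⟨(Algebra.trace (ZMod p) K x).val, hψa x, ?_⟩
        have h1 := FiniteField.algebraMap_trace_eq_sum_pow (ZMod p) K x
        rw [hfin, Nat.card_eq_fintype_card, ZMod.card] at h1
        rw [← h1]
        have h2 : ((Algebra.trace (ZMod p) K x).val : ZMod p) = Algebra.trace (ZMod p) K x :=
          ZMod.natCast_zmod_val _
        conv_rhs => rw [← h2]
        rw [map_natCast]
      hψ1 := hψ1 }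
  have hSg : ∀ a, a < Fintype.card K - 1 → MUnit M (toC M (S.g a) /
      ((ζ : ℂ) - 1) ^ (Nat.digits p a).sum) := by
    intro a ha
    obtain ⟨u, hu, hu'⟩ := S.stickelberger a ha
    have huu : IsUnit u := by
      by_contra h
      have h1 : residue R u = 0 := (residue_eq_zero_iff _).2 ((mem_maximalIdeal _).2 h)
      rw [h1, zero_mul] at hu'
      exact zero_ne_one hu'
    have h1 := munit_of_isUnit M huu
    have h2 : toC M (S.g a) = ((ζ : ℂ) - 1) ^ (Nat.digits p a).sum * toC M u := by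
      rw [hu, map_mul, map_pow, map_sub, map_one]
      show ((toC M ζR) - 1) ^ _ * _ = _
      rw [hζC]
    have h3 : ((ζ : ℂ) - 1) ≠ 0 := by
      rw [← hζC]
      intro h
      apply hζ1
      apply hinj
      rw [map_one]
      exact sub_eq_zero.1 h
    rw [h2, mul_comm, mul_div_assoc, div_self (pow_ne_zero _ h3), mul_one]
    exact h1
  let ωC : MulChar K ℂ := (S.T⁻¹).ringHomComp (toC M)
  let ψC : AddChar K ℂ := (toC M : R →* ℂ).compAddChar ψ
  have hψC : ψC ≠ 1 := by
    intro h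
    apply hψ1
    ext x
    apply hinj
    have h1 := congrArg (fun φ : AddChar K ℂ => φ x) h
    have h2 : toC M (ψ x) = 1 := h1
    rw [h2, AddChar.one_apply, map_one]
  have hgC : ∀ a, toC M (S.g a) = - gaussSum (ωC ^ a) ψC := by
    intro a
    rw [Stick.Setting.g, map_neg, map_gaussSum, ← MulChar.ringHomComp_pow]
  have hP0 : ((ζ : ℂ) - 1) ≠ 0 := by
    rw [← hζC]
    intro h
    apply hζ1
    apply hinj
    rw [map_one]
    exact sub_eq_zero.1 h
  have hneg : MUnit M (-1 : ℂ) := ⟨1, -1, fun h => hMp.ne_top ((Ideal.eq_top_iff_one _).2 h),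
    fun h => hMp.ne_top ((Ideal.eq_top_iff_one _).2 (by simpa using M.neg_mem h)), by simp⟩
  have hall : ∀ ψ' : AddChar K ℂ, ψ' ≠ 1 → ∀ a, a < Fintype.card K - 1 →
      MUnit M (gaussSum (ωC ^ a) ψ' / ((ζ : ℂ) - 1) ^ (Nat.digits p a).sum) := by
    intro ψ' hψ' a ha
    obtain ⟨c, rfl⟩ := exists_mulShift hψC ψ'
    have hc : c ≠ 0 := by
      rintro rfl
      apply hψ'
      rw [AddChar.mulShift_zero]
    have h1 := gaussSum_mulShift (ωC ^ a) ψC (Units.mk0 c hc)
    rw [Units.val_mk0] at h1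
    have h2 := munit_mulChar hMp (ωC ^ a) hc
    have h3 := hSg a ha
    rw [hgC, ← h1] at h3
    have h4 := MUnit.mul hMp (MUnit.mul hMp h3 h2.inv) hneg
    have h5 := h2.ne_zero
    convert h4 using 1
    field_simp
  refine ⟨ωC, (ζ : ℂ) - 1, ?_, ?_, ?_, hP0⟩
  · -- order of ω
    apply Nat.dvd_antisymm (orderOf_dvd_card ωC)
    have h0 : 0 < orderOf ωC := orderOf_pos_iff.2 (isOfFinOrder_iff_pow_eq_one.2
      ⟨Fintype.card K - 1, by omega, by
        have := orderOf_dvd_card ωC
        exact orderOf_dvd_iff_pow_eq_one.1 this⟩)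
    rcases Nat.lt_or_ge (orderOf ωC) (Fintype.card K - 1) with h | h
    · exfalso
      refine S.T_pow_ne_one h0 h ?_
      ext x
      apply hinj
      have h1 := congrArg (fun φ : MulChar K ℂ => φ (x : K)) (pow_orderOf_eq_one ωC)
      rw [MulChar.ringHomComp_pow, MulChar.ringHomComp_apply, MulChar.one_apply_coe] at h1
      rw [h1, MulChar.one_apply_coe, map_one]
    · have := Nat.le_of_dvd (by omega) (orderOf_dvd_card ωC)
      rw [le_antisymm this h]
  · intro ψ' hψ' a ha
    obtain ⟨x, y, hx, hy, e⟩ := hall ψ' hψ' a ha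
    refine ⟨x, y, hx, hy, ?_⟩
    rw [← e]
    have := pow_ne_zero (Nat.digits p a).sum hP0
    field_simp
  · have hN : 1 < Fintype.card K - 1 := by omega
    have h1 := hall ψC hψC 1 hN
    have hψC' : ψC⁻¹ ≠ 1 := inv_ne_one.2 hψC
    have h2 := hall ψC⁻¹ hψC' (Fintype.card K - 1 - 1) (by omega)
    have h3 := MUnit.mul hMp h1 h2
    have hω1 : ωC ^ (Fintype.card K - 1 - 1) = ωC⁻¹ := by
      rw [eq_inv_iff_mul_eq_one, ← pow_succ, show Fintype.card K - 1 - 1 + 1
        = Fintype.card K - 1 by omega]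
      exact orderOf_dvd_iff_pow_eq_one.1 (orderOf_dvd_card ωC)
    have hne : ωC ^ 1 ≠ 1 := by
      intro h
      refine S.T_pow_ne_one (a := 1) one_pos (by omega) ?_
      ext x
      apply hinj
      have h1 := congrArg (fun φ : MulChar K ℂ => φ (x : K)) h
      rw [MulChar.ringHomComp_pow, MulChar.ringHomComp_apply, MulChar.one_apply_coe] at h1
      rw [h1, MulChar.one_apply_coe, map_one]
    have h4 : gaussSum (ωC ^ 1) ψC * gaussSum (ωC ^ (Fintype.card K - 1 - 1)) ψC⁻¹
        = (Fintype.card K : ℂ) := by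
      have := gaussSum_mul_gaussSum_eq_card hne (AddChar.IsPrimitive.of_ne_one hψC)
      rw [hω1]
      rwa [pow_one] at this ⊢
    have h5 : (Nat.digits p 1).sum + (Nat.digits p (Fintype.card K - 1 - 1)).sum
        = f * (p - 1) := by
      rw [hf]
      exact digits_compl hp1 one_pos (by rw [← hf]; omega)
    have h6 : gaussSum (ωC ^ 1) ψC / (↑ζ - 1) ^ (Nat.digits p 1).sum *
        (gaussSum (ωC ^ (Fintype.card K - 1 - 1)) ψC⁻¹ /
          (↑ζ - 1) ^ (Nat.digits p (Fintype.card K - 1 - 1)).sum)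
        = (Fintype.card K : ℂ) / ((ζ : ℂ) - 1) ^ (f * (p - 1)) := by
      rw [div_mul_div_comm, h4, ← pow_add, h5]
    rw [h6] at h3
    obtain ⟨x, y, hx, hy, e⟩ := h3
    refine ⟨x, y, hx, hy, ?_⟩
    rw [← e]
    have := pow_ne_zero (f * (p - 1)) hP0
    field_simp

end Cfsg.Agent.H766.KGV
end

-- part: H625/KGV/Orbit
section
/-!
# Invariant characters are sums over orbits; orbit functions

* `OrbFun.prod`: the product of an orbit function over `m` Frobenius steps is an orbit function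
  for `f * m`.
* `orbit_decomp`: a nonzero character invariant under the power map by `q` contains the sum over the
  `q`-orbit of an irreducible character.
-/

set_option autoImplicit false
set_option linter.unusedSectionVars false

open Cfsg Finset
open scoped ComplexConjugate

namespace Cfsg.Agent.H625.KGV

open Cfsg.Agent.H644.KGV
open Cfsg.Agent.Characters

universe u

theorem prod_range_mul' {M : Type*} [CommMonoid M] (G : ℕ → M) (m e : ℕ) :
    ∏ i ∈ range e, ∏ j ∈ range m, G (m * i + j) = ∏ k ∈ range (m * e), G k := by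
  induction e with
  | zero => simp
  | succ e ih => rw [Finset.prod_range_succ, ih, Nat.mul_succ, Finset.prod_range_add]

/-- The product of an orbit function over `m` Frobenius steps is an orbit function. -/
theorem orbFun_prod {p : ℕ} [NeZero p] {T : ℕ → ℕ → ZMod p} {f : ℕ} {a : ZMod p} {F : ℂ → ℂ}
    (h : OrbFun p T f a F) {m : ℕ} (hm : 1 ≤ m) :
    OrbFun p T (f * m) a (fun z => ∏ i ∈ range m, F (z ^ (p ^ (f * i)))) := by
  intro e z he hz
  have h1 := h (m * e) z (Nat.mul_pos hm he) (by rw [← Nat.mul_assoc]; exact hz)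
  rw [← Nat.mul_assoc] at h1
  rw [← h1, ← prod_range_mul' (fun k => F (z ^ (p ^ (f * k)))) m e]
  refine prod_congr rfl fun i _ => prod_congr rfl fun j _ => ?_
  rw [← pow_mul, ← pow_add]
  congr 3
  ring

variable {E : Type u} [Group E] [Finite E]

theorem pow_pow_pow (h : E) (q i : ℕ) : (h ^ q) ^ (q ^ i) = h ^ (q ^ (i + 1)) := by
  rw [← pow_mul, pow_succ']

/-- The inner product is invariant under power maps. -/
theorem classInner_pow [Fintype E] {m : ℕ} (hm : m.Coprime (Nat.card E)) (χ ψ : E → ℂ) :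
    classInner (fun g => χ (g ^ m)) (fun g => ψ (g ^ m)) = classInner χ ψ := by
  rw [Core.classInner_def, Core.classInner_def]
  congr 1
  exact Fintype.sum_equiv (powCoprime hm.symm) _ _ fun g => rfl

theorem inv_pow {q : ℕ} {χ : E → ℂ} (hinv : ∀ h, χ (h ^ q) = χ h) (i : ℕ) (h : E) :
    χ (h ^ (q ^ i)) = χ h := by
  induction i with
  | zero => rw [pow_zero, pow_one]
  | succ i ih => rw [pow_succ, pow_mul, hinv, ih]

/-- A nonzero character invariant under the `q`-th power map contains the sum over the `q`-orbit of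
an irreducible character. -/
theorem orbit_decomp {q : ℕ} (hq : q.Coprime (Nat.card E)) {χ : E → ℂ} (hχ : IsCharacter E χ)
    (hinv : ∀ h, χ (h ^ q) = χ h) (h0 : χ ≠ 0) :
    ∃ ψ : E → ℂ, IsIrrCharacter E ψ ∧ ∃ d : ℕ, 1 ≤ d ∧ (∀ h, ψ (h ^ (q ^ d)) = ψ h) ∧
      ∃ χ' : E → ℂ, IsCharacter E χ' ∧ (∀ h, χ' (h ^ q) = χ' h) ∧
        (χ = (fun h => ∑ i ∈ range d, ψ (h ^ (q ^ i))) + χ') := by
  classical
  have := Fintype.ofFinite E
  have := Core.finite_irr (G := E)
  have := Fintype.ofFinite (IrrCharacter E)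
  obtain ⟨m, hm⟩ := Core.exists_nat_comb hχ
  have hmi : ∀ ψ : IrrCharacter E, classInner χ (ψ : E → ℂ) = m ψ := fun ψ => by
    rw [hm]; exact Core.classInner_sum_nsmul_irr m ψ
  have hex : ∃ ψ, m ψ ≠ 0 := by
    by_contra hcon
    push Not at hcon
    apply h0
    rw [hm]
    exact Finset.sum_eq_zero fun ψ _ => by rw [hcon ψ, zero_smul]
  obtain ⟨ψ, hψ⟩ := hex
  have hqi : ∀ i, (q ^ i).Coprime (Nat.card E) := fun i => Nat.Coprime.pow_left i hq
  -- the orbit
  let Ψ : ℕ → IrrCharacter E := fun i => ⟨_, GaloisIrr.isIrr_pow (hqi i) ψ.2⟩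
  have hΨ : ∀ i h, (Ψ i : E → ℂ) h = (ψ : E → ℂ) (h ^ (q ^ i)) := fun i h => rfl
  have hex2 : ∃ d, 1 ≤ d ∧ ∀ h, (ψ : E → ℂ) (h ^ (q ^ d)) = (ψ : E → ℂ) h := by
    refine ⟨Nat.totient (Nat.card E), Nat.totient_pos.2 Nat.card_pos, fun h => ?_⟩
    have h1 : q ^ Nat.totient (Nat.card E) ≡ 1 [MOD Nat.card E] := Nat.ModEq.pow_totient hq
    have h2 : h ^ (q ^ Nat.totient (Nat.card E)) = h ^ 1 :=
      pow_eq_pow_iff_modEq.2 (h1.of_dvd (orderOf_dvd_natCard h))
    rw [h2, pow_one]
  let d := Nat.find hex2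
  obtain ⟨hd1, hd2⟩ := Nat.find_spec hex2
  have hmin : ∀ k, k < d → ¬(1 ≤ k ∧ ∀ h, (ψ : E → ℂ) (h ^ (q ^ k)) = (ψ : E → ℂ) h) :=
    fun k hk => Nat.find_min hex2 hk
  have hinj : ∀ i j, i < j → j < d → Ψ i ≠ Ψ j := by
    intro i j hij hj heq
    refine hmin (j - i) (by omega) ⟨by omega, fun h => ?_⟩
    -- `h` is a `q ^ i`-th power
    obtain ⟨g, rfl⟩ : ∃ g : E, g ^ (q ^ i) = h := (powCoprime (hqi i).symm).surjective h
    have h1 := congrFun (congrArg Subtype.val heq) g
    change (ψ : E → ℂ) (g ^ (q ^ i)) = (ψ : E → ℂ) (g ^ (q ^ j)) at h1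
    have h2 : (g ^ (q ^ i)) ^ (q ^ (j - i)) = g ^ (q ^ j) := by
      rw [← pow_mul, ← pow_add, Nat.add_sub_cancel' hij.le]
    rw [h2, h1]
  have hmΨ : ∀ i, m (Ψ i) = m ψ := by
    intro i
    have h1 : classInner χ (Ψ i : E → ℂ) = classInner χ (ψ : E → ℂ) := by
      rw [← classInner_pow (hqi i) χ (ψ : E → ℂ)]
      congr 1
      funext h
      exact (inv_pow hinv i h).symm
    rw [hmi, hmi] at h1
    exact_mod_cast h1
  let S : Finset (IrrCharacter E) := (range d).image Ψ
  have hS : ∀ φ ∈ S, 1 ≤ m φ := by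
    intro φ hφ
    obtain ⟨i, _, rfl⟩ := Finset.mem_image.1 hφ
    rw [hmΨ]
    omega
  have hinjOn : Set.InjOn Ψ (range d : Set ℕ) := by
    intro i hi j hj hij
    rcases lt_trichotomy i j with h | h | h
    · exact absurd hij (hinj i j h (Finset.mem_range.1 (Finset.mem_coe.1 hj)))
    · exact h
    · exact absurd hij.symm (hinj j i h (Finset.mem_range.1 (Finset.mem_coe.1 hi)))
  let m' : IrrCharacter E → ℕ := fun φ => m φ - if φ ∈ S then 1 else 0
  have hsum : (fun h => ∑ i ∈ range d, (ψ : E → ℂ) (h ^ (q ^ i))) =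
      ∑ φ : IrrCharacter E, (if φ ∈ S then 1 else 0 : ℕ) • (φ : E → ℂ) := by
    simp only [ite_smul, one_smul, zero_smul]
    rw [Finset.sum_ite_mem, Finset.univ_inter, Finset.sum_image hinjOn]
    funext h
    rw [Finset.sum_apply]
  have hdec : χ = (fun h => ∑ i ∈ range d, (ψ : E → ℂ) (h ^ (q ^ i))) +
      ∑ φ : IrrCharacter E, m' φ • (φ : E → ℂ) := by
    rw [hsum, ← Finset.sum_add_distrib]
    refine hm.trans (Finset.sum_congr rfl fun φ _ => ?_)
    rw [← add_smul]
    congr 1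
    by_cases hφ : φ ∈ S
    · have := hS φ hφ
      simp only [m', if_pos hφ]
      omega
    · simp only [m', if_neg hφ, zero_add, Nat.sub_zero]
  refine ⟨ψ, ψ.2, d, hd1, hd2, ∑ φ : IrrCharacter E, m' φ • (φ : E → ℂ),
    Core.isCharacter_sum _ fun φ _ => Core.isCharacter_nsmul _ (Core.isIrr_isCharacter φ.2), ?_,
    hdec⟩
  intro h
  have h1 := congrFun hdec h
  have h2 := congrFun hdec (h ^ q)
  rw [Pi.add_apply] at h1 h2
  rw [hinv h, h1] at h2
  have h3 : ∑ i ∈ range d, (ψ : E → ℂ) ((h ^ q) ^ (q ^ i)) =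
      ∑ i ∈ range d, (ψ : E → ℂ) (h ^ (q ^ i)) := by
    simp only [pow_pow_pow]
    have h4 := Finset.sum_range_succ' (fun i => (ψ : E → ℂ) (h ^ (q ^ i))) d
    have h5 := Finset.sum_range_succ (fun i => (ψ : E → ℂ) (h ^ (q ^ i))) d
    rw [h5] at h4
    have h6 : (ψ : E → ℂ) (h ^ (q ^ d)) = (ψ : E → ℂ) (h ^ (q ^ 0)) := by
      rw [pow_zero, pow_one]; exact hd2 h
    rw [h6] at h4
    exact (add_right_cancel h4).symm
  rw [h3] at h2
  exact (add_left_cancel h2).symm

end Cfsg.Agent.H625.KGV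
end

-- part: H625/KGV/Elem
section
/-!
# Integrality of the Gauss sum class functions on elementary groups (task ELEM)
-/

set_option autoImplicit false

open Cfsg Finset
open scoped ComplexConjugate

namespace Cfsg.Agent.H625.KGV

open Cfsg.Agent.H644.KGV
open Cfsg.Agent.H500.KGV
open Cfsg.Agent.Characters

universe u

section UInt

variable {G : Type u} [Group G]

theorem gen_of_char {χ : G → ℂ} (h : IsCharacter G χ) : IsGeneralizedCharacter G χ :=
  ⟨χ, 0, h, Core.isCharacter_zero, (sub_zero χ).symm⟩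

theorem gen_zero : IsGeneralizedCharacter G (0 : G → ℂ) := gen_of_char Core.isCharacter_zero

theorem gen_add {χ ψ : G → ℂ} (h : IsGeneralizedCharacter G χ) (h' : IsGeneralizedCharacter G ψ) :
    IsGeneralizedCharacter G (χ + ψ) := by
  obtain ⟨a, b, ha, hb, rfl⟩ := h
  obtain ⟨c, d, hc, hd, rfl⟩ := h'
  exact ⟨a + c, b + d, Core.isCharacter_add ha hc, Core.isCharacter_add hb hd, by ring⟩

theorem gen_mul {χ ψ : G → ℂ} (h : IsGeneralizedCharacter G χ) (h' : IsGeneralizedCharacter G ψ) :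
    IsGeneralizedCharacter G (χ * ψ) := by
  obtain ⟨a, b, ha, hb, rfl⟩ := h
  obtain ⟨c, d, hc, hd, rfl⟩ := h'
  exact ⟨a * c + b * d, a * d + b * c,
    Core.isCharacter_add (Core.isCharacter_mul ha hc) (Core.isCharacter_mul hb hd),
    Core.isCharacter_add (Core.isCharacter_mul ha hd) (Core.isCharacter_mul hb hc), by ring⟩

theorem gen_sum {ι : Type*} (s : Finset ι) {χ : ι → G → ℂ}
    (h : ∀ i ∈ s, IsGeneralizedCharacter G (χ i)) : IsGeneralizedCharacter G (∑ i ∈ s, χ i) := by
  classical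
  induction s using Finset.induction_on with
  | empty => exact gen_zero
  | insert a s ha ih =>
    rw [Finset.sum_insert ha]
    exact gen_add (h a (Finset.mem_insert_self a s))
      (ih fun i hi => h i (Finset.mem_insert_of_mem hi))

variable {p : ℕ} [NeZero p]

theorem uint_congr {κ κ' : ZMod p → G → ℂ} (h : UInt p G κ)
    (hc : ∀ a, a ≠ 0 → ∀ g, κ' a g = κ a g) : UInt p G κ' := by
  obtain ⟨θ, h1, h2⟩ := h
  exact ⟨θ, h1, fun a ha g => (hc a ha g).trans (h2 a ha g)⟩

theorem uint_one : UInt p G (fun _ _ => 1) := by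
  refine ⟨fun k => if k = 0 then 1 else 0, fun k => ?_, fun a _ g => ?_⟩
  · by_cases h : k = 0
    · simp only [h, if_true]
      exact gen_of_char Core.isCharacter_one
    · simp only [h, if_false]
      exact gen_zero
  · rw [Finset.sum_eq_single 0]
    · simp
    · intro k _ hk
      simp [hk]
    · exact fun h => absurd (Finset.mem_univ _) h

theorem uint_mul {κ κ' : ZMod p → G → ℂ} (h : UInt p G κ) (h' : UInt p G κ') :
    UInt p G (fun a g => κ a g * κ' a g) := by
  obtain ⟨θ, h1, h2⟩ := h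
  obtain ⟨θ', h1', h2'⟩ := h'
  refine ⟨fun k => ∑ i : ZMod p, θ i * θ' (k - i), fun k => gen_sum _ fun i _ =>
    gen_mul (h1 i) (h1' _), fun a ha g => ?_⟩
  simp only [Finset.sum_apply, Pi.mul_apply]
  rw [h2 a ha g, h2' a ha g, Finset.sum_mul_sum]
  simp only [Finset.mul_sum]
  rw [Finset.sum_comm (s := (Finset.univ : Finset (ZMod p))) (t := Finset.univ)
    (f := fun k i => (ZMod.stdAddChar (a * k) : ℂ) * (θ i g * θ' (k - i) g))]
  refine Finset.sum_congr rfl fun i _ => ?_
  refine Fintype.sum_equiv (Equiv.addRight i) _ _ fun j => ?_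
  simp only [Equiv.coe_addRight, add_sub_cancel_right, mul_add, AddChar.map_add_eq_mul]
  ring

end UInt

variable {E : Type u} [Group E] [Finite E]

/-- `kap` of an orbit sum. -/
theorem kap_orbit {q : ℕ} (hq : q.Coprime (Nat.card E)) (F : ℂ → ℂ) {ψ : E → ℂ}
    (hψ : IsIrrCharacter E ψ) (d : ℕ) (g : E) :
    kap F (fun h => ∑ i ∈ range d, ψ (h ^ (q ^ i))) g =
      kap (fun z => ∏ i ∈ range d, F (z ^ (q ^ i))) ψ g := by
  have h1 : (fun h : E => ∑ i ∈ range d, ψ (h ^ (q ^ i))) =
      ∑ i ∈ range d, fun h : E => ψ (h ^ (q ^ i)) := by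
    funext h
    rw [Finset.sum_apply]
  have hc : ∀ i, IsCharacter E (fun h : E => ψ (h ^ (q ^ i))) := fun i =>
    Core.isIrr_isCharacter (GaloisIrr.isIrr_pow (Nat.Coprime.pow_left i hq) hψ)
  rw [h1, kap_sum F _ (fun i _ => hc i), kap_prod]
  refine Finset.prod_congr rfl fun i _ => ?_
  exact kap_power_twist F (Core.isIrr_isCharacter hψ) (fun _ => rfl) g

/-- **Task ELEM.** -/
theorem elem (h1 : IndStep.{u}) (h2 : Semilinear.{u}) (h3 : Dichotomy.{u}) : Elem.{u} := by
  intro p _ T hT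
  -- induction on the order
  suffices H : ∀ (n : ℕ) (E : Type u) [Group E] [Finite E], Nat.card E ≤ n → ∀ (ℓ f : ℕ),
      ℓ.Prime → IsElementary ℓ E → ¬ p ∣ Nat.card E → 1 ≤ f →
      ∀ (χ : E → ℂ), IsCharacter E χ → (∀ h : E, χ (h ^ (p ^ f)) = χ h) →
      ∀ (F : ZMod p → ℂ → ℂ), (∀ a, a ≠ 0 → OrbFun p T f a (F a)) →
        UInt p E (fun a => kap (F a) χ) from
    fun E _ _ ℓ f hℓ hE hp hf χ hχ hinv F hF => H _ E le_rfl ℓ f hℓ hE hp hf χ hχ hinv F hF
  intro n
  induction n with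
  | zero =>
    intro E _ _ hn
    exact absurd (Nat.card_pos (α := E)) (by omega)
  | succ n ih =>
    intro E _ _ hn ℓ f hℓ hE hp hf
    have := Fintype.ofFinite E
    have hcop : ∀ f, (p ^ f).Coprime (Nat.card E) := fun f =>
      Nat.Coprime.pow_left f ((Nat.Prime.coprime_iff_not_dvd Fact.out).2 hp)
    -- the irreducible case
    have hirr : ∀ (f : ℕ), 1 ≤ f → ∀ (χ : E → ℂ), IsIrrCharacter E χ →
        (∀ h : E, χ (h ^ (p ^ f)) = χ h) →
        ∀ (F : ZMod p → ℂ → ℂ), (∀ a, a ≠ 0 → OrbFun p T f a (F a)) →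
          UInt p E (fun a => kap (F a) χ) := by
      intro f hf χ hχ hinv F hF
      rcases h3 p E ℓ f hℓ hE hp hf χ hχ hinv with
        ⟨N, φ, hN, hidx, hℓf, hφ, hφi, rfl⟩ | ⟨A, t, k, lam, hA, hidx, hℓf, htop, hlam, rfl⟩
      · have hcard : Nat.card N * N.index = Nat.card E := N.card_mul_index
        have hlt : Nat.card N < Nat.card E := by
          have hpos : 0 < Nat.card N := Nat.card_pos
          have := hℓ.two_le
          rw [hidx] at hcard
          nlinarith
        have hNp : ¬ p ∣ Nat.card N := fun h => hp (h.trans (Subgroup.card_subgroup_dvd_card N))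
        exact h1 p T hT E N ℓ f hp hℓ hidx hf hℓf φ hφ hφi F hF
          (ih N (by omega) ℓ f hℓ (Elementary.isElementary_subgroup hℓ hE N) hNp hf φ hφ hφi F hF)
      · exact h2 p T hT E A t ℓ k f lam hp hℓ hidx hf hℓf htop hlam F hF
    -- induction on the degree
    suffices H : ∀ (m : ℕ) (χ : E → ℂ), IsCharacter E χ → (∀ k : ℕ, χ 1 = k → k ≤ m) →
        (∀ h : E, χ (h ^ (p ^ f)) = χ h) →
        ∀ (F : ZMod p → ℂ → ℂ), (∀ a, a ≠ 0 → OrbFun p T f a (F a)) →
          UInt p E (fun a => kap (F a) χ) by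
      intro χ hχ hinv F hF
      obtain ⟨m, hm⟩ := Core.isCharacter_apply_one hχ
      refine H m χ hχ (fun k hk => ?_) hinv F hF
      rw [hm] at hk
      exact (by exact_mod_cast hk.symm : k = m).le
    intro m
    induction m with
    | zero =>
      intro χ hχ hm hinv F hF
      obtain ⟨m, hm'⟩ := Core.isCharacter_apply_one hχ
      have hm0 : m = 0 := Nat.le_zero.1 (hm m hm')
      have hχ0 : χ = 0 := by
        by_contra hne
        obtain ⟨ψ, hψ, d, hd, -, χ', hχ', -, hdec⟩ := orbit_decomp (hcop f) hχ hinv hne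
        obtain ⟨r, hr0, hr⟩ := Core.isIrr_apply_one hψ
        obtain ⟨s, hs⟩ := Core.isCharacter_apply_one hχ'
        have h4 := congrFun hdec 1
        simp only [Pi.add_apply, one_pow, Finset.sum_const, Finset.card_range, nsmul_eq_mul, hr,
          hs, hm', hm0] at h4
        have h5 : 0 = d * r + s := by exact_mod_cast h4
        have := Nat.mul_pos hd hr0
        omega
      subst hχ0
      exact uint_congr uint_one fun a _ g => kap_zero (F a) g
    | succ m ihm =>
      intro χ hχ hm hinv F hF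
      by_cases hne : χ = 0
      · subst hne
        exact uint_congr uint_one fun a _ g => kap_zero (F a) g
      obtain ⟨ψ, hψ, d, hd, hψd, χ', hχ', hχ'i, hdec⟩ := orbit_decomp (hcop f) hχ hinv hne
      have hsum : IsCharacter E (fun h => ∑ i ∈ range d, ψ (h ^ ((p ^ f) ^ i))) := by
        have h6 : (fun h : E => ∑ i ∈ range d, ψ (h ^ ((p ^ f) ^ i))) =
            ∑ i ∈ range d, fun h : E => ψ (h ^ ((p ^ f) ^ i)) := by
          funext h
          rw [Finset.sum_apply]
        rw [h6]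
        exact Core.isCharacter_sum _ fun i _ =>
          Core.isIrr_isCharacter (GaloisIrr.isIrr_pow (Nat.Coprime.pow_left i (hcop f)) hψ)
      have hu1 : UInt p E (fun a => kap (fun z => ∏ i ∈ range d, F a (z ^ (p ^ (f * i)))) ψ) := by
        refine hirr (f * d) (Nat.mul_pos hf hd) ψ hψ (fun h => ?_) _
          fun a ha => orbFun_prod (hF a ha) hd
        rw [pow_mul]
        exact hψd h
      have hu2 : UInt p E (fun a => kap (F a) χ') := by
        refine ihm χ' hχ' (fun k hk => ?_) hχ'i F hF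
        obtain ⟨r, hr0, hr⟩ := Core.isIrr_apply_one hψ
        obtain ⟨s, hs⟩ := Core.isCharacter_apply_one hχ
        have h4 := congrFun hdec 1
        simp only [Pi.add_apply, one_pow, Finset.sum_const, Finset.card_range, nsmul_eq_mul, hr,
          hs, hk] at h4
        have h5 : s = d * r + k := by exact_mod_cast h4
        have := Nat.mul_pos hd hr0
        have := hm s hs
        omega
      refine uint_congr (uint_mul hu1 hu2) fun a ha g => ?_
      rw [hdec, kap_add (F a) hsum hχ', kap_orbit (hcop f) (F a) hψ d g]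
      congr 2
      funext z
      refine Finset.prod_congr rfl fun i _ => ?_
      rw [pow_mul]

end Cfsg.Agent.H625.KGV
end

-- part: H194/KGV/Orb
section
/-!
# A Frobenius invariant orbit function

`FF p T a z` is the `d`-th root of the Gauss sum `PG p T d a z`, where `d` is the length of the
Frobenius orbit of `z`.  It is constant on the Frobenius orbits, `OrbFun p T 1 a (FF p T a)`, it is
an algebraic integer with `‖FF p T a z‖ ^ 2 = p` for `z ≠ 1`, and `FF p T a 1 = 1`.
-/

set_option autoImplicit false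

namespace Cfsg.Agent.H194.KGV

open Cfsg Finset Function Cfsg.Agent.H644.KGV

/-- The length of the Frobenius orbit of `z`. -/
noncomputable def per (p : ℕ) (z : ℂ) : ℕ := minimalPeriod (fun w : ℂ => w ^ p) z

/-- The Frobenius invariant orbit function. -/
noncomputable def FF (p : ℕ) [NeZero p] (T : ℕ → ℕ → ZMod p) (a : ZMod p) (z : ℂ) : ℂ :=
  (PG p T (per p z) a z) ^ ((per p z : ℂ)⁻¹)

theorem iterate_pow_p (p i : ℕ) (z : ℂ) : (fun w : ℂ => w ^ p)^[i] z = z ^ (p ^ i) := by
  induction i with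
  | zero => simp
  | succ i ih => rw [iterate_succ_apply', ih, ← pow_mul, pow_succ]

variable {p : ℕ} [Fact p.Prime] {T : ℕ → ℕ → ZMod p}

theorem pos_pow (m : ℕ) : 1 ≤ p ^ m := Nat.one_le_pow _ _ (Fact.out : p.Prime).pos

theorem isPeriodicPt_of_pow {m : ℕ} {z : ℂ} (h : z ^ (p ^ m - 1) = 1) :
    IsPeriodicPt (fun w : ℂ => w ^ p) m z := by
  unfold IsPeriodicPt IsFixedPt
  rw [iterate_pow_p, ← Nat.sub_add_cancel (pos_pow (p := p) m), pow_succ, h, one_mul]

theorem pow_of_isPeriodicPt {m : ℕ} {z : ℂ} (hz : z ≠ 0)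
    (h : IsPeriodicPt (fun w : ℂ => w ^ p) m z) : z ^ (p ^ m - 1) = 1 := by
  unfold IsPeriodicPt IsFixedPt at h
  rw [iterate_pow_p, ← Nat.sub_add_cancel (pos_pow (p := p) m), pow_succ] at h
  exact mul_right_cancel₀ hz (by rw [h, one_mul])

theorem ne_zero_of_pow {m : ℕ} (hm : 1 ≤ m) {z : ℂ} (h : z ^ (p ^ m - 1) = 1) : z ≠ 0 := by
  rintro rfl
  have h1 : 1 < p ^ m := Nat.one_lt_pow (by omega) (Fact.out : p.Prime).one_lt
  rw [zero_pow (by omega)] at h
  exact zero_ne_one h

theorem per_dvd {m : ℕ} {z : ℂ} (h : z ^ (p ^ m - 1) = 1) : per p z ∣ m :=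
  (isPeriodicPt_of_pow h).minimalPeriod_dvd

theorem mem_periodicPts {m : ℕ} (hm : 1 ≤ m) {z : ℂ} (h : z ^ (p ^ m - 1) = 1) :
    z ∈ periodicPts (fun w : ℂ => w ^ p) :=
  mk_mem_periodicPts (by omega) (isPeriodicPt_of_pow h)

theorem per_pos {m : ℕ} (hm : 1 ≤ m) {z : ℂ} (h : z ^ (p ^ m - 1) = 1) : 1 ≤ per p z :=
  minimalPeriod_pos_of_mem_periodicPts (mem_periodicPts hm h)

theorem pow_per {m : ℕ} (hm : 1 ≤ m) {z : ℂ} (h : z ^ (p ^ m - 1) = 1) :
    z ^ (p ^ per p z - 1) = 1 :=
  pow_of_isPeriodicPt (ne_zero_of_pow hm h) (isPeriodicPt_minimalPeriod _ z)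

/-- Gauss sums are Frobenius invariant. -/
theorem PG_pow (hT : GaussSys p T) {f : ℕ} (hf : 1 ≤ f) (a : ZMod p) {z : ℂ}
    (hz : z ^ (p ^ f - 1) = 1) : PG p T f a (z ^ p) = PG p T f a z := by
  unfold PG
  congr 1
  set N := p ^ f - 1 with hN
  have h1 : 1 < p ^ f := Nat.one_lt_pow (by omega) (Fact.out : p.Prime).one_lt
  have hN0 : 0 < N := by omega
  have hpf : p ^ f = N + 1 := by omega
  have hper : ∀ k j, T f (j + N * k) = T f j := by
    intro k
    induction k with
    | zero => intro j; rw [mul_zero, add_zero]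
    | succ k ih => intro j; rw [Nat.mul_succ, ← add_assoc, hT.per f _ hf, ih]
  have hmod : ∀ j, T f (j % N) = T f j := by
    intro j
    conv_rhs => rw [← Nat.mod_add_div j N]
    exact (hper _ _).symm
  have hzm : ∀ j, z ^ (j % N) = z ^ j := by
    intro j
    conv_rhs => rw [← Nat.mod_add_div j N, pow_add, pow_mul, hz, one_pow, mul_one]
  have hpp : p ^ (f - 1) * p = N + 1 := by rw [← pow_succ, Nat.sub_add_cancel hf, hpf]
  have hinv : ∀ j, j < N → (N + 1) * j % N = j := by
    intro j hj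
    rw [Nat.add_mul, one_mul, Nat.add_comm, Nat.add_mul_mod_self_left, Nat.mod_eq_of_lt hj]
  refine Finset.sum_nbij' (fun j => (p * j) % N) (fun j => (p ^ (f - 1) * j) % N) ?_ ?_ ?_ ?_ ?_
  · intro j _
    exact Finset.mem_range.2 (Nat.mod_lt _ hN0)
  · intro j _
    exact Finset.mem_range.2 (Nat.mod_lt _ hN0)
  · intro j hj
    rw [Nat.mul_mod, Nat.mod_mod, ← Nat.mul_mod, ← mul_assoc, hpp, hinv j (Finset.mem_range.1 hj)]
  · intro j hj
    rw [Nat.mul_mod, Nat.mod_mod, ← Nat.mul_mod, ← mul_assoc, mul_comm p, hpp,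
      hinv j (Finset.mem_range.1 hj)]
  · intro j _
    change _ = (ZMod.stdAddChar (a * T f (p * j % N)) : ℂ) * z ^ (p * j % N)
    rw [hmod, hT.frob f j hf, hzm, ← pow_mul]

theorem per_pow {m : ℕ} (hm : 1 ≤ m) {z : ℂ} (h : z ^ (p ^ m - 1) = 1) :
    per p (z ^ p) = per p z :=
  minimalPeriod_apply (mem_periodicPts hm h)

omit [Fact p.Prime] in
theorem pow_pow_eq {m : ℕ} {z : ℂ} (h : z ^ (p ^ m - 1) = 1) (k : ℕ) :
    (z ^ k) ^ (p ^ m - 1) = 1 := by
  rw [← pow_mul, mul_comm, pow_mul, h, one_pow]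

theorem FF_frob (hT : GaussSys p T) (a : ZMod p) {m : ℕ} (hm : 1 ≤ m) {z : ℂ}
    (h : z ^ (p ^ m - 1) = 1) : FF p T a (z ^ p) = FF p T a z := by
  unfold FF
  rw [per_pow hm h, PG_pow hT (per_pos hm h) a (pow_per hm h)]

theorem FF_frob_iter (hT : GaussSys p T) (a : ZMod p) {m : ℕ} (hm : 1 ≤ m) {z : ℂ}
    (h : z ^ (p ^ m - 1) = 1) (i : ℕ) : FF p T a (z ^ (p ^ i)) = FF p T a z := by
  induction i with
  | zero => rw [pow_zero, pow_one]
  | succ i ih => rw [pow_succ, pow_mul, FF_frob hT a hm (pow_pow_eq h _), ih]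

theorem FF_pow_per (a : ZMod p) {m : ℕ} (hm : 1 ≤ m) {z : ℂ} (h : z ^ (p ^ m - 1) = 1) :
    FF p T a z ^ per p z = PG p T (per p z) a z := by
  unfold FF
  exact Complex.cpow_nat_inv_pow _ (by have := per_pos hm h; omega)

/-- `FF p T a` is an orbit function. -/
theorem orbFun_FF (hT : GaussSys p T) {a : ZMod p} (ha : a ≠ 0) : OrbFun p T 1 a (FF p T a) := by
  intro e z he hz
  simp only [one_mul] at hz ⊢
  rw [Finset.prod_congr rfl fun i _ => FF_frob_iter hT a he hz i, Finset.prod_const,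
    Finset.card_range]
  obtain ⟨m, hm⟩ := per_dvd hz
  have hd := per_pos he hz
  rw [show FF p T a z ^ e = (FF p T a z ^ per p z) ^ m by rw [← pow_mul, ← hm],
    FF_pow_per a he hz]
  have hm1 : 1 ≤ m := by
    rcases Nat.eq_zero_or_pos m with h0 | h0
    · rw [h0, mul_zero] at hm
      omega
    · exact h0
  rw [← hT.lift _ m a z hd hm1 ha (pow_per he hz), ← hm]

theorem FF_one (hT : GaussSys p T) {a : ZMod p} (ha : a ≠ 0) : FF p T a 1 = 1 := by
  have h1 : (1 : ℂ) ^ (p ^ 1 - 1) = 1 := one_pow _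
  unfold FF
  rw [hT.one _ a (per_pos le_rfl h1) ha, Complex.one_cpow]

theorem isIntegral_std (b : ZMod p) : IsIntegral ℤ (ZMod.stdAddChar b : ℂ) := by
  refine IsIntegral.of_pow (n := p) (Fact.out : p.Prime).pos ?_
  rw [← AddChar.map_nsmul_eq_pow]
  rw [nsmul_eq_mul, CharP.cast_eq_zero, zero_mul, AddChar.map_zero_eq_one]
  exact isIntegral_one

theorem isIntegral_PG (hT : GaussSys p T) {f : ℕ} (hf : 1 ≤ f) {a : ZMod p} (ha : a ≠ 0) {z : ℂ}
    (hz : z ^ (p ^ f - 1) = 1) : IsIntegral ℤ (PG p T f a z) := by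
  by_cases h1 : z = 1
  · rw [h1, hT.one f a hf ha]
    exact isIntegral_one
  · obtain ⟨y, hy, he⟩ := hT.ideal f a z hf hz h1
    rw [he]
    exact (isIntegral_one.sub (isIntegral_std 1)).mul hy

theorem isIntegral_FF (hT : GaussSys p T) {a : ZMod p} (ha : a ≠ 0) {m : ℕ} (hm : 1 ≤ m) {z : ℂ}
    (h : z ^ (p ^ m - 1) = 1) : IsIntegral ℤ (FF p T a z) := by
  refine IsIntegral.of_pow (n := per p z) (per_pos hm h) ?_
  rw [FF_pow_per a hm h]
  exact isIntegral_PG hT (per_pos hm h) ha (pow_per hm h)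

theorem norm_FF (hT : GaussSys p T) {a : ZMod p} (ha : a ≠ 0) {m : ℕ} (hm : 1 ≤ m) {z : ℂ}
    (h : z ^ (p ^ m - 1) = 1) (h1 : z ≠ 1) : ‖FF p T a z‖ ^ 2 = (p : ℝ) := by
  have hd := per_pos hm h
  have h2 := hT.norm _ a z hd ha (pow_per hm h) h1
  rw [← FF_pow_per a hm h, norm_pow, ← pow_mul, mul_comm, pow_mul] at h2
  exact (pow_left_inj₀ (by positivity) (by positivity) (by omega)).1 h2

end Cfsg.Agent.H194.KGV
end

-- part: H194/KGV/Main
section
/-!
# The k(GV) theorem: existence of the class functions `κ` and the assembly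

* `existsK`: integrality on elementary groups, the Brauer lift and the Gauss system give `KData`.
* `mainKGV`: reduction to a complement by the Schur–Zassenhaus theorem.
-/

set_option autoImplicit false

universe u

namespace Cfsg.Agent.H194.KGV

open Cfsg Finset Function Cfsg.Agent.H644.KGV Cfsg.Agent.H500.KGV

/-- The elements of the multiset `M` of eigenvalues of a `p'`-element are `p ^ m - 1`-th roots of
unity for a common `m`. -/
theorem exists_pow_eq_one {p : ℕ} [Fact p.Prime] {N : ℕ} (hN : ¬ p ∣ N) (hN0 : N ≠ 0) :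
    ∃ m : ℕ, 1 ≤ m ∧ ∀ z : ℂ, z ^ N = 1 → z ^ (p ^ m - 1) = 1 := by
  have hc : Nat.Coprime p N := ((Fact.out : p.Prime).coprime_iff_not_dvd).2 hN
  refine ⟨N.totient, Nat.totient_pos.2 (Nat.pos_of_ne_zero hN0), fun z hz => ?_⟩
  have h1 : N ∣ p ^ N.totient - 1 := (Nat.modEq_iff_dvd' (pos_pow _)).1
    (Nat.ModEq.pow_totient hc).symm
  obtain ⟨k, hk⟩ := h1
  rw [hk, pow_mul, hz, one_pow]

section multiset

variable {p : ℕ} [Fact p.Prime] {T : ℕ → ℕ → ZMod p}

theorem norm_prod_FF (hT : GaussSys p T) {a : ZMod p} (ha : a ≠ 0) {m : ℕ} (hm : 1 ≤ m)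
    (M : Multiset ℂ) (h : ∀ z ∈ M, z ^ (p ^ m - 1) = 1) :
    ‖(M.map (FF p T a)).prod‖ ^ 2 * (p : ℝ) ^ (M.count 1) = (p : ℝ) ^ M.card := by
  induction M using Multiset.induction_on with
  | empty => simp
  | cons z s ih =>
    have ih' := ih fun w hw => h w (Multiset.mem_cons_of_mem hw)
    have hz := h z (Multiset.mem_cons_self z s)
    rw [Multiset.map_cons, Multiset.prod_cons, norm_mul, mul_pow, Multiset.card_cons]
    by_cases h1 : z = 1
    · subst h1
      rw [FF_one hT ha, norm_one, one_pow, one_mul, Multiset.count_cons_self,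
        pow_succ (p : ℝ), ← mul_assoc, ih', pow_succ]
    · rw [norm_FF hT ha hm hz h1, Multiset.count_cons_of_ne (fun e => h1 e.symm), mul_assoc, ih',
        pow_succ, mul_comm]

theorem isIntegral_prod_FF (hT : GaussSys p T) {a : ZMod p} (ha : a ≠ 0) {m : ℕ} (hm : 1 ≤ m)
    (M : Multiset ℂ) (h : ∀ z ∈ M, z ^ (p ^ m - 1) = 1) :
    IsIntegral ℤ (M.map (FF p T a)).prod := by
  refine IsIntegral.multiset_prod fun x hx => ?_
  obtain ⟨z, hz, rfl⟩ := Multiset.mem_map.1 hx
  exact isIntegral_FF hT ha hm (h z hz)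

/-- A Frobenius invariant multiset with an element `z ≠ 1` contains its orbit. -/
theorem ideal_prod_FF (hT : GaussSys p T) {a : ZMod p} (ha : a ≠ 0) {m : ℕ} (hm : 1 ≤ m)
    (M : Multiset ℂ) (h : ∀ z ∈ M, z ^ (p ^ m - 1) = 1) (hM : M.map (fun z => z ^ p) = M)
    {z : ℂ} (hz : z ∈ M) (hz1 : z ≠ 1) :
    ∃ y : ℂ, IsIntegral ℤ y ∧ (M.map (FF p T a)).prod =
      (1 - (ZMod.stdAddChar (1 : ZMod p) : ℂ)) * y := by
  classical
  have hmem : ∀ i : ℕ, z ^ (p ^ i) ∈ M := by
    intro i
    induction i with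
    | zero => rwa [pow_zero, pow_one]
    | succ i ih =>
      rw [pow_succ, pow_mul, ← hM]
      exact Multiset.mem_map.2 ⟨_, ih, rfl⟩
  have hinj : Set.InjOn (fun i => z ^ (p ^ i)) (Finset.range (per p z) : Set ℕ) := by
    intro i hi j hj hij
    have h1 := iterate_injOn_Iio_minimalPeriod (f := fun w : ℂ => w ^ p) (x := z)
    refine h1 (Set.mem_Iio.2 (Finset.mem_range.1 (Finset.mem_coe.1 hi)))
      (Set.mem_Iio.2 (Finset.mem_range.1 (Finset.mem_coe.1 hj))) ?_
    simp only [iterate_pow_p]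
    exact hij
  set O : Finset ℂ := (Finset.range (per p z)).image fun i => z ^ (p ^ i) with hO
  have hle : O.val ≤ M := by
    rw [Finset.val_le_iff_val_subset]
    intro w hw
    obtain ⟨i, -, rfl⟩ := Finset.mem_image.1 (Finset.mem_def.2 hw)
    exact hmem i
  obtain ⟨R, hR⟩ := Multiset.le_iff_exists_add.1 hle
  have h2 : (O.val.map (FF p T a)).prod = PG p T (per p z) a z := by
    change ∏ w ∈ O, FF p T a w = _
    rw [hO, Finset.prod_image (fun i hi j hj => hinj hi hj)]
    rw [Finset.prod_congr rfl fun i _ => FF_frob_iter hT a hm (h z hz) i, Finset.prod_const,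
      Finset.card_range, FF_pow_per a hm (h z hz)]
  obtain ⟨y, hy, he⟩ := hT.ideal (per p z) a z (per_pos hm (h z hz)) (pow_per hm (h z hz)) hz1
  refine ⟨y * (R.map (FF p T a)).prod, hy.mul (isIntegral_prod_FF hT ha hm R fun w hw => h w ?_), ?_⟩
  · rw [hR]
    exact Multiset.mem_add.2 (Or.inr hw)
  · rw [hR, Multiset.map_add, Multiset.prod_add, h2, he, mul_assoc]

end multiset

/-- The class functions `κ` exist. -/
theorem existsK (h : Elem.{u}) (h' : BrauerLift.{u})
    (h'' : ∀ (p : ℕ) [Fact p.Prime], ∃ T : ℕ → ℕ → ZMod p, GaussSys p T) : ExistsK.{u} := by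
  intro p _ X _ _ V G _ hexp hidx hcen hcompl
  classical
  obtain ⟨T, hT⟩ := h'' p
  have hcomm : ∀ v ∈ V, ∀ w ∈ V, v * w = w * v := by
    intro v hv w hw
    have h1 : v ∈ Subgroup.centralizer (V : Set X) := by rw [hcen]; exact hv
    exact (Subgroup.mem_centralizer_iff.1 h1 w hw).symm
  have hcard : V.index = Nat.card G := hcompl.symm.index_eq_card
  have hpG : ¬ p ∣ Nat.card G := by rwa [← hcard]
  obtain ⟨β, hβ, hβp, n, hn, hβe⟩ := h' p X V G hexp hcomm hpG
  obtain ⟨m, hm, hroot⟩ := exists_pow_eq_one (p := p) hpG Nat.card_pos.ne'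
  have hev : ∀ g : G, ∀ z ∈ eig β g, z ^ (p ^ m - 1) = 1 := fun g z hz =>
    hroot z (pow_card_of_mem_eig hz)
  refine ⟨fun a g => kap (FF p T a) β g, ?_, ?_, ?_, ?_⟩
  · -- uniform integrality
    refine H688.KGV.UI.glue (fun a _ => isClassFunction_kap _ hβ) fun E ℓ hℓ hE => ?_
    have hpE : ¬ p ∣ Nat.card E := fun hd => hpG (hd.trans (Subgroup.card_subgroup_dvd_card E))
    have hβE : IsCharacter E (fun x : E => β x) := Characters.Core.isCharacter_comp E.subtype hβ
    have h1 := h p T hT E ℓ 1 hℓ hE hpE le_rfl (fun x : E => β x) hβE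
      (fun x => by
        rw [pow_one]
        exact hβp x) (fun a => FF p T a) fun a ha => orbFun_FF hT ha
    exact H688.KGV.UI.congr h1 fun a _ x => (kap_restrict _ hβ E x).symm
  · intro a ha
    have h1 : eig β (1 : G) = Multiset.replicate n 1 := by
      refine Multiset.eq_replicate.2 ⟨(hβe 1).1, fun z hz => ?_⟩
      have := pow_orderOf_of_mem_eig hz
      rwa [orderOf_one, pow_one] at this
    change kap (FF p T a) β 1 = 1
    rw [kap_def, h1, Multiset.map_replicate, Multiset.prod_replicate, FF_one hT ha, one_pow]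
  · intro a ha g
    rw [kap_def, hn, (hβe g).2]
    have := norm_prod_FF hT ha hm (eig β g) (hev g)
    rw [(hβe g).1] at this
    push_cast
    exact this
  · intro a ha g hg
    have hex : ∃ z ∈ eig β g, z ≠ 1 := by
      by_contra hcon
      push Not at hcon
      apply hg
      have h1 : eig β g = Multiset.replicate n 1 :=
        Multiset.eq_replicate.2 ⟨(hβe g).1, hcon⟩
      have h2 := (hβe g).2
      rw [h1, Multiset.count_replicate_self, ← hn] at h2
      have h3 : V ⊓ Subgroup.centralizer ({(g : X)} : Set X) = V :=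
        Subgroup.eq_of_le_of_card_ge inf_le_left h2.ge
      have h4 : (g : X) ∈ V := by
        rw [← hcen, Subgroup.mem_centralizer_iff]
        intro v hv
        have h5 : v ∈ Subgroup.centralizer ({(g : X)} : Set X) := (inf_eq_left.1 h3) hv
        exact (Subgroup.mem_centralizer_iff.1 h5 g (Set.mem_singleton _)).symm
      have h6 : (g : X) ∈ V ⊓ G := ⟨h4, g.2⟩
      rw [hcompl.disjoint.eq_bot, Subgroup.mem_bot] at h6
      exact Subtype.ext h6
    obtain ⟨z, hz, hz1⟩ := hex
    exact ideal_prod_FF hT ha hm (eig β g) (hev g)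
      (eig_map_pow hβ (fun x => hβp x) g) hz hz1

/-- The k(GV) theorem from the existence of `κ` and the final count. -/
theorem mainKGV (h : ExistsK.{u}) (h' : Count.{u}) : MainKGV.{u} := by
  intro p _ X _ _ V _ hexp hidx hcen
  have hp : IsPGroup p V := fun v => ⟨1, by
    rw [pow_one]
    exact Subtype.ext (hexp v v.2)⟩
  obtain ⟨n, hn⟩ := IsPGroup.iff_card.1 hp
  have hcop : (Nat.card V).Coprime V.index := by
    rw [hn]
    exact Nat.Coprime.pow_left n (((Fact.out : p.Prime).coprime_iff_not_dvd).2 hidx)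
  obtain ⟨G, hG⟩ := Subgroup.exists_right_complement'_of_coprime hcop
  obtain ⟨κ, hκ⟩ := h p X V G hexp hidx hcen hG
  have hcard : V.index = Nat.card G := hG.symm.index_eq_card
  rw [hcard]
  exact h' p X V G hexp hidx hcen hG κ hκ

end Cfsg.Agent.H194.KGV
end

-- part: H644/KGV/Final
section
/-!
# The k(GV) theorem: the final assembly

`mainKGV : MainKGV` is the k(GV) theorem, proved with Gauss sums: let `X` be a finite group with an
elementary abelian normal self-centralizing `p`-subgroup `V` of index prime to `p`. Then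
`k(X) ≤ |V|`, and in the case of equality the irreducible character degrees of `X` are congruent to
`± |X : V|` modulo `p`.
-/

set_option autoImplicit false

universe u

namespace Cfsg.Agent.H644.KGV

theorem hdLift' : HDLift := Cfsg.Agent.H991.KGV.hdLift

theorem hdTwo' : HDTwo := Cfsg.Agent.H521.KGV.HdTwo.hdTwo

theorem hdOdd' : HDOdd := Cfsg.Agent.H774.KGV.hdOdd_of_stickLight Cfsg.Agent.H766.KGV.stickLight

theorem hdOddNS' : HDOddNS := Cfsg.Agent.H295.KGV.hdOddNS hdLift' hdOdd'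

theorem hdTwoNS' : HDTwoNS :=
  Cfsg.Agent.H99.KGV.hdTwoNS_of hdLift' hdTwo' (fun K L _ _ _ _ _ X Y η ψ hψ h2 hη hη2 hf hXY hX =>
    Cfsg.Agent.H32.KGV.sign K L X Y η ψ hψ h2 hη hη2 hf hXY hX)

theorem exists_gaussSys' (p : ℕ) [Fact p.Prime] : ∃ T, GaussSys p T :=
  Cfsg.Agent.H577.KGV.exists_gaussSys hdLift' hdTwo' hdOdd' hdOddNS' hdTwoNS' p

theorem elem' : Elem.{u} :=
  Cfsg.Agent.H625.KGV.elem indStep Cfsg.Agent.H140.KGV.semilinear Cfsg.Agent.H266.KGV.dichotomy

theorem existsK' : ExistsK.{u} :=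
  Cfsg.Agent.H194.KGV.existsK elem' Cfsg.Agent.H671.KGV.brauerLift
    (fun p _ => exists_gaussSys' p)

/-- **The k(GV) theorem.** -/
theorem mainKGV : MainKGV.{u} :=
  Cfsg.Agent.H194.KGV.mainKGV existsK' Cfsg.Agent.H991.KGV.count

end Cfsg.Agent.H644.KGV
end
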